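import Groth.Agent.Lib.IndEt.Algebra
import Mathlib.RingTheory.Etale.Weakly
import Mathlib.RingTheory.Flat.EquationalCriterion
import Mathlib.LinearAlgebra.TensorProduct.Finiteness

/-!
# Ind-étale algebras are weakly étale
-/

set_option autoImplicit false

universe u

open TensorProduct

namespace GrothLib.IndEt

variable {A B : Type u} [CommRing A] [CommRing B] [Algebra A B]

theorem flat (h : EtPBC.IsIndEtale A B) : Module.Flat A B := by
  refine Module.Flat.of_forall_isTrivialRelation fun {l f x} hfx => ?_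
  obtain ⟨V, _, _, _, b, x₀, hx₀⟩ := exists_etale_lift h x
  obtain ⟨W, _, _, _, a, bW, hab, ha⟩ := exists_etale_ker h b (fun _ : Unit => ∑ i, f i • x₀ i)
    (fun _ => by simp [hx₀, hfx])
  have hW : ∑ i, f i • a (x₀ i) = 0 := by simpa using ha ()
  haveI : Algebra.WeaklyEtale A W := inferInstance
  obtain ⟨k, c, y, hy, hc⟩ := Module.Flat.isTrivialRelation_of_sum_smul_eq_zero hW
  refine ⟨k, c, fun j => bW (y j), fun i => ?_, hc⟩
  have hy' : a (x₀ i) = ∑ j, c i j • y j := hy i
  rw [← hx₀ i, ← AlgHom.congr_fun hab (x₀ i), AlgHom.comp_apply, hy']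
  simp

theorem lmul'_flat (h : EtPBC.IsIndEtale A B) :
    (Algebra.TensorProduct.lmul' A (S := B)).Flat := by
  let μ := Algebra.TensorProduct.lmul' A (S := B)
  letI : Algebra (B ⊗[A] B) B := μ.toRingHom.toAlgebra
  show Module.Flat (B ⊗[A] B) B
  refine Module.Flat.of_forall_isTrivialRelation fun {l c x} hcx => ?_
  classical
  choose S hS using fun i => TensorProduct.exists_finset (c i)
  let κ : Type := (Σ i : Fin l, Fin (S i).card × Bool) ⊕ Fin l
  let tgt : κ → B := fun p => match p with
    | .inl ⟨i, j, true⟩ => ((S i).equivFin.symm j).1.1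
    | .inl ⟨i, j, false⟩ => ((S i).equivFin.symm j).1.2
    | .inr i => x i
  obtain ⟨V, _, _, _, b, z, hz⟩ := exists_etale_lift h tgt
  let c₀ : Fin l → V ⊗[A] V := fun i =>
    ∑ j : Fin (S i).card, z (.inl ⟨i, j, true⟩) ⊗ₜ[A] z (.inl ⟨i, j, false⟩)
  have hc₀ : ∀ i, Algebra.TensorProduct.map b b (c₀ i) = c i := fun i => by
    rw [hS i, map_sum, ← Finset.sum_coe_sort (S i)]
    refine Fintype.sum_equiv (S i).equivFin.symm _ _ fun j => ?_
    rw [Algebra.TensorProduct.map_tmul, hz, hz]
  let μV := Algebra.TensorProduct.lmul' A (S := V)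
  have hnat : ∀ {P Q : Type u} [CommRing P] [Algebra A P] [CommRing Q] [Algebra A Q]
      (φ : P →ₐ[A] Q) (t : P ⊗[A] P), φ (Algebra.TensorProduct.lmul' A t) =
        Algebra.TensorProduct.lmul' A (Algebra.TensorProduct.map φ φ t) := fun φ t => by
    induction t using TensorProduct.induction_on with
    | zero => simp
    | tmul p q => simp
    | add s t hs ht => simp [hs, ht]
  obtain ⟨W, _, _, _, a, bW, hab, ha⟩ := exists_etale_ker h b
    (fun _ : Unit => ∑ i, μV (c₀ i) * z (.inr i)) (fun _ => by
      rw [map_sum]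
      refine Eq.trans (Finset.sum_congr rfl fun i _ => ?_) hcx
      rw [map_mul, hnat, hc₀, hz]
      rfl)
  letI : Algebra (W ⊗[A] W) W := (Algebra.TensorProduct.lmul' A (S := W)).toRingHom.toAlgebra
  haveI : Module.Flat (W ⊗[A] W) W := Algebra.WeaklyEtale.flat_lmul' A W
  have hW : ∑ i, Algebra.TensorProduct.map a a (c₀ i) • a (z (.inr i)) = 0 := by
    have e := ha ()
    rw [map_sum] at e
    refine Eq.trans (Finset.sum_congr rfl fun i _ => ?_) e
    rw [map_mul, hnat]
    rfl
  obtain ⟨k, e, y, hy, he⟩ := Module.Flat.isTrivialRelation_of_sum_smul_eq_zero hW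
  have hcomp : ∀ t : V ⊗[A] V, Algebra.TensorProduct.map bW bW (Algebra.TensorProduct.map a a t) =
      Algebra.TensorProduct.map b b t := fun t => by
    induction t using TensorProduct.induction_on with
    | zero => simp
    | tmul p q =>
      simp only [Algebra.TensorProduct.map_tmul, ← AlgHom.comp_apply, hab]
    | add s t hs ht => simp only [map_add, hs, ht]
  refine ⟨k, fun i j => Algebra.TensorProduct.map bW bW (e i j), fun j => bW (y j), fun i => ?_,
    fun j => ?_⟩
  · have hy' : a (z (.inr i)) = ∑ j, e i j • y j := hy i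
    rw [show x i = bW (a (z (.inr i))) from ((AlgHom.congr_fun hab (z (.inr i))).trans (hz (.inr i))).symm, hy',
      map_sum]
    refine Finset.sum_congr rfl fun j _ => ?_
    show bW (Algebra.TensorProduct.lmul' A (e i j) * y j) = _
    rw [map_mul, hnat]
    rfl
  · rw [Finset.sum_congr rfl (fun i _ => by rw [← hc₀ i, ← hcomp, ← map_mul] :
      ∀ i ∈ Finset.univ, c i * Algebra.TensorProduct.map bW bW (e i j) =
        Algebra.TensorProduct.map bW bW (Algebra.TensorProduct.map a a (c₀ i) * e i j)), ← map_sum,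
      he j, map_zero]

theorem weaklyEtale (h : EtPBC.IsIndEtale A B) : Algebra.WeaklyEtale A B :=
  haveI := flat h
  ⟨inferInstance, lmul'_flat h⟩

end GrothLib.IndEt
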