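import Groth.Agent.Lib.IndEt.Algebra
import Groth.Agent.Lib.IndEt.Flat
import Groth.Prelude.Def_ProEtW
import Mathlib.RingTheory.Smooth.NoetherianDescent
import Mathlib.RingTheory.Etale.Pi
import Mathlib.RingTheory.Spectrum.Prime.Chevalley
import Mathlib.RingTheory.Flat.FaithfullyFlat.Algebra
import Mathlib.RingTheory.Localization.InvSubmonoid

/-!
# Retractions of faithfully flat étale / weakly étale algebras
-/

set_option autoImplicit false

universe u

open TensorProduct PrimeSpectrum

namespace GrothLib.IndEt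

variable {A : Type u} [CommRing A]

theorem etale_prod' (S T : Type u) [CommRing S] [Algebra A S] [Algebra.Etale A S] [CommRing T]
    [Algebra A T] [Algebra.Etale A T] : Algebra.Etale A (S × T) := by
  let F : Bool → Type u := fun b => cond b S T
  letI : ∀ b, CommRing (F b) := fun b => by cases b <;> dsimp [F] <;> infer_instance
  letI : ∀ b, Algebra A (F b) := fun b => by cases b <;> dsimp [F] <;> infer_instance
  haveI : ∀ b, Algebra.Etale A (F b) := fun b => by cases b <;> dsimp [F] <;> infer_instance
  let e : (∀ b, F b) ≃ₐ[A] S × T :=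
    { toFun := fun x => (x true, x false)
      invFun := fun p b => Bool.rec p.2 p.1 b
      left_inv := fun x => by funext b; cases b <;> rfl
      right_inv := fun p => rfl
      map_mul' := fun _ _ => rfl
      map_add' := fun _ _ => rfl
      commutes' := fun _ => rfl }
  exact Algebra.Etale.of_equiv e

theorem flat_prod {R M N : Type u} [CommRing R] [AddCommGroup M] [Module R M] [AddCommGroup N]
    [Module R N] [Module.Flat R M] [Module.Flat R N] : Module.Flat R (M × N) := by
  refine Module.Flat.iff_rTensor_injective'.mpr fun I => ?_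
  let e := TensorProduct.prodRight R R I M N
  let e' := TensorProduct.prodRight R R R M N
  have key : ∀ z, e' (I.subtype.rTensor (M × N) z) =
      (I.subtype.rTensor M (e z).1, I.subtype.rTensor N (e z).2) := by
    intro z
    induction z with
    | zero => simp only [map_zero, Prod.fst_zero, Prod.snd_zero]; rfl
    | tmul a p => simp [e, e']
    | add a b ha hb => simp only [map_add, Prod.fst_add, Prod.snd_add, ha, hb, Prod.mk_add_mk]
  intro x y hxy
  have h := congrArg e' hxy
  rw [key, key, Prod.mk.injEq] at h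
  exact e.injective (Prod.ext
    (Module.Flat.rTensor_preserves_injective_linearMap _ I.subtype_injective h.1)
    (Module.Flat.rTensor_preserves_injective_linearMap _ I.subtype_injective h.2))

theorem flat_fst (S T : Type u) [CommRing S] [CommRing T] : (RingHom.fst S T).Flat := by
  letI : Algebra (S × T) S := (RingHom.fst S T).toAlgebra
  haveI : IsLocalization.Away ((1, 0) : S × T) S :=
    IsLocalization.away_of_isIdempotentElem (R := S × T) (e := ((1, 0) : S × T)) (by
        simp [IsIdempotentElem])
      (by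
        ext ⟨a, b⟩
        rw [RingHom.mem_ker, Ideal.mem_span_singleton]
        constructor
        · intro h
          exact ⟨(0, b), by
            have : a = 0 := h
            ext <;> simp [this]⟩
        · rintro ⟨⟨c, d⟩, h⟩
          have : a = (1 - 1) * c := congrArg Prod.fst h
          show a = 0
          simpa using this)
      (fun s => ⟨(s, 0), rfl⟩)
  exact IsLocalization.flat S (Submonoid.powers ((1, 0) : S × T))

theorem flat_snd (S T : Type u) [CommRing S] [CommRing T] : (RingHom.snd S T).Flat := by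
  have : (RingHom.fst T S).comp (RingEquiv.prodComm : S × T ≃+* T × S).toRingHom =
      RingHom.snd S T := rfl
  rw [← this]
  exact (RingHom.Flat.of_bijective (RingEquiv.prodComm : S × T ≃+* T × S).bijective).comp
    (flat_fst T S)

theorem weaklyEtale_prod (S T : Type u) [CommRing S] [Algebra A S] [Algebra.WeaklyEtale A S]
    [CommRing T] [Algebra A T] [Algebra.WeaklyEtale A T] : Algebra.WeaklyEtale A (S × T) := by
  refine ⟨flat_prod, ?_⟩
  let μ := Algebra.TensorProduct.lmul' A (S := S × T)
  letI : Algebra ((S × T) ⊗[A] (S × T)) (S × T) := μ.toRingHom.toAlgebra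
  letI : Algebra ((S × T) ⊗[A] (S × T)) S := ((AlgHom.fst A S T).comp μ).toRingHom.toAlgebra
  letI : Algebra ((S × T) ⊗[A] (S × T)) T := ((AlgHom.snd A S T).comp μ).toRingHom.toAlgebra
  haveI : Module.Flat ((S × T) ⊗[A] (S × T)) S := by
    show ((AlgHom.fst A S T).comp μ).toRingHom.Flat
    have : (AlgHom.fst A S T).comp μ = (Algebra.TensorProduct.lmul' A (S := S)).comp
        (Algebra.TensorProduct.map (AlgHom.fst A S T) (AlgHom.fst A S T)) := by
      ext <;> simp [μ]
    rw [this]
    exact RingHom.Flat.comp (RingHom.Flat.tensorProductMap (flat_fst S T) (flat_fst S T))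
      (Algebra.WeaklyEtale.flat_lmul' A S)
  haveI : Module.Flat ((S × T) ⊗[A] (S × T)) T := by
    show ((AlgHom.snd A S T).comp μ).toRingHom.Flat
    have : (AlgHom.snd A S T).comp μ = (Algebra.TensorProduct.lmul' A (S := T)).comp
        (Algebra.TensorProduct.map (AlgHom.snd A S T) (AlgHom.snd A S T)) := by
      ext <;> simp [μ]
    rw [this]
    exact RingHom.Flat.comp (RingHom.Flat.tensorProductMap (flat_snd S T) (flat_snd S T))
      (Algebra.WeaklyEtale.flat_lmul' A T)
  show Module.Flat ((S × T) ⊗[A] (S × T)) (S × T)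
  have hP := flat_prod (R := (S × T) ⊗[A] (S × T)) (M := S) (N := T)
  convert hP using 1

/-- Retraction property gives sections over idempotent-open neighbourhoods of closed sets. -/
theorem exists_retraction_mod (h : ProEtW.HasEtaleRetractions A) (V : Type u) [CommRing V]
    [Algebra A V] [Algebra.Etale A V] (I : Ideal A)
    (hI : zeroLocus (I : Set A) ⊆ Set.range (comap (algebraMap A V))) :
    ∃ g : A, 1 - g ∈ I ∧ g * g = g ∧ Nonempty (V →ₐ[A] A ⧸ Ideal.span {1 - g}) := by
  have hc : IsClosed (Set.range (comap (algebraMap A V)))ᶜ :=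
    (isOpenMap_comap_of_hasGoingDown_of_finitePresentation (R := A) (S := V)).isOpen_range.isClosed_compl
  obtain ⟨J, hJ⟩ := (isClosed_iff_zeroLocus_ideal _).1 hc
  have htop : I ⊔ J = ⊤ := by
    by_contra hne
    obtain ⟨m, hm, hle⟩ := Ideal.exists_le_maximal _ hne
    have h1 : (⟨m, hm.isPrime⟩ : PrimeSpectrum A) ∈ zeroLocus (I : Set A) := le_sup_left.trans hle
    have h2 : (⟨m, hm.isPrime⟩ : PrimeSpectrum A) ∈ zeroLocus (J : Set A) := le_sup_right.trans hle
    rw [← hJ] at h2
    exact h2 (hI h1)
  obtain ⟨i, hi, j, hj, hij⟩ := Submodule.mem_sup.1 (htop ▸ (Submodule.mem_top : (1 : A) ∈ ⊤))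
  let W := Localization.Away i
  haveI : Algebra.Etale A W := Algebra.Etale.of_isLocalizationAway i
  haveI := etale_prod' (A := A) V W
  haveI : Module.FaithfullyFlat A (V × W) := by
    refine Module.FaithfullyFlat.of_comap_surjective fun p => ?_
    by_cases hp : p ∈ Set.range (comap (algebraMap A V))
    · obtain ⟨q, rfl⟩ := hp
      exact ⟨comap (RingHom.fst V W) q, by rw [← comap_comp_apply]; rfl⟩
    · have hp' : i ∉ p.asIdeal := fun hmem => by
        have : (p : PrimeSpectrum A) ∈ zeroLocus (J : Set A) := hJ ▸ hp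
        exact p.isPrime.ne_top ((Ideal.eq_top_iff_one _).2 (hij ▸ p.asIdeal.add_mem hmem (this hj)))
      obtain ⟨q, rfl⟩ : p ∈ Set.range (comap (algebraMap A W)) := by
        rw [localization_away_comap_range W i]
        exact hp'
      exact ⟨comap (RingHom.snd V W) q, by rw [← comap_comp_apply]; rfl⟩
  obtain ⟨r⟩ := h (V × W) inferInstance inferInstance
  let g := r (1, 0)
  have h1g : 1 - g = r (0, 1) := by
    rw [← map_one r, ← map_sub]
    congr 1
    ext <;> simp
  refine ⟨g, ?_, by simp [g, ← map_mul], ⟨AlgHom.ofLinearMap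
    { toFun := fun v => Ideal.Quotient.mk _ (r (v, 0))
      map_add' := fun a b => by rw [← map_add, ← map_add]; simp
      map_smul' := fun a b => by
        rw [RingHom.id_apply, show (a • b, (0 : W)) = a • ((b, 0) : V × W) by simp, map_smul,
          smul_eq_mul, map_mul, Algebra.smul_def]
        rfl } ?_ ?_⟩⟩
  · obtain ⟨w, hw⟩ : ∃ w : W, algebraMap A W i * w = 1 :=
      (IsLocalization.Away.algebraMap_isUnit (S := W) i).exists_right_inv
    have : r (0, 1) = i * r (0, w) := by
      rw [← smul_eq_mul, ← map_smul]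
      congr 1
      ext <;> simp [Algebra.smul_def, hw]
    rw [h1g, this]
    exact I.mul_mem_right _ hi
  · show Ideal.Quotient.mk (Ideal.span {1 - g}) g = 1
    rw [← map_one (Ideal.Quotient.mk (Ideal.span {1 - g})), Ideal.Quotient.eq,
      ← Ideal.neg_mem_iff, neg_sub]
    exact Ideal.subset_span rfl
  · intro a b
    show Ideal.Quotient.mk (Ideal.span {1 - g}) (r (a * b, 0)) =
      Ideal.Quotient.mk (Ideal.span {1 - g}) (r (a, 0)) * Ideal.Quotient.mk (Ideal.span {1 - g}) (r (b, 0))
    rw [← map_mul, ← map_mul]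
    simp

/-- A map from a finitely presented algebra to a localization factors through a principal one. -/
theorem exists_away_factor {B : Type u} [CommRing B] [Algebra A B] (S : Submonoid A)
    [IsLocalization S B] {Z : Type u} [CommRing Z] [Algebra A Z] [Algebra.FinitePresentation A Z]
    (g : Z →ₐ[A] B) :
    ∃ (s : A), s ∈ S ∧ ∃ (a : Z →ₐ[A] Localization.Away s) (b : Localization.Away s →ₐ[A] B),
      b.comp a = g := by
  classical
  obtain ⟨n, π, hπ, rel, hrel⟩ := (inferInstance : Algebra.FinitePresentation A Z).out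
  obtain ⟨t, ht⟩ := IsLocalization.exist_integer_multiples_of_finite S
    (fun k : Fin n => g (π (MvPolynomial.X k)))
  choose c hc using ht
  let T := Localization.Away (t : A)
  have hmap : ∀ s : A, s ∈ S → IsUnit (algebraMap A B s) := fun s hs =>
    IsLocalization.map_units B ⟨s, hs⟩
  let bT : T →ₐ[A] B :=
    IsLocalization.liftAlgHom (M := Submonoid.powers (t : A)) (f := Algebra.ofId A B) (by
      rintro ⟨_, k, rfl⟩; exact hmap _ (pow_mem t.2 k))
  let x : Fin n → T := fun k => IsLocalization.mk' T (c k) ⟨(t : A), Submonoid.mem_powers _⟩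
  have hbx : ∀ k, bT (x k) = g (π (MvPolynomial.X k)) := fun k => by
    apply (hmap _ t.2).mul_left_cancel
    rw [← bT.commutes, ← map_mul]
    conv_lhs => rw [show algebraMap A T t * x k = algebraMap A T (c k) from
      IsLocalization.mk'_spec' T (c k) ⟨(t : A), Submonoid.mem_powers _⟩]
    rw [AlgHom.commutes, AlgHom.commutes, hc k, Algebra.smul_def]
  have hπx : bT.comp (MvPolynomial.aeval x) = g.comp π :=
    MvPolynomial.algHom_ext fun k => by simp [hbx]
  have hd : ∀ f : rel, ∃ u ∈ S, algebraMap A T u * MvPolynomial.aeval x f.1 = 0 := fun f => by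
    obtain ⟨⟨d, w⟩, hdw⟩ := IsLocalization.surj (Submonoid.powers (t : A)) (MvPolynomial.aeval x f.1)
    have h0 : algebraMap A B d = 0 := by
      rw [← bT.commutes, ← hdw, map_mul]
      have : bT (MvPolynomial.aeval x f.1) = g (π f.1) := AlgHom.congr_fun hπx f.1
      rw [this, show π f.1 = 0 from RingHom.mem_ker.1 (hrel ▸ Ideal.subset_span f.2), map_zero,
        zero_mul]
    obtain ⟨u, hu⟩ := (IsLocalization.map_eq_zero_iff S B d).1 h0
    refine ⟨u, u.2, ?_⟩
    apply (IsLocalization.map_units T w).mul_left_cancel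
    rw [mul_zero, mul_left_comm, mul_comm (algebraMap A T w), hdw, ← map_mul, hu, map_zero]
  choose u huS hu using hd
  let U := ∏ f : rel, u f
  refine ⟨(t : A) * U, mul_mem t.2 (prod_mem fun f _ => huS f), ?_⟩
  let L := Localization.Away ((t : A) * U)
  have hs : IsUnit (algebraMap A L ((t : A) * U)) := IsLocalization.Away.algebraMap_isUnit _
  rw [map_mul] at hs
  let j : T →ₐ[A] L :=
    IsLocalization.liftAlgHom (M := Submonoid.powers (t : A)) (f := Algebra.ofId A L) (by
      rintro ⟨_, k, rfl⟩
      show IsUnit (algebraMap A L ((t : A) ^ k))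
      rw [map_pow]
      exact (isUnit_of_mul_isUnit_left hs).pow k)
  let bL : L →ₐ[A] B :=
    IsLocalization.liftAlgHom (M := Submonoid.powers ((t : A) * U)) (f := Algebra.ofId A B) (by
      rintro ⟨_, k, rfl⟩
      exact hmap _ (pow_mem (mul_mem t.2 (prod_mem fun f _ => huS f)) k))
  have hker : ∀ z ∈ RingHom.ker π, j (MvPolynomial.aeval x z) = 0 := fun z hz => by
    have : RingHom.ker π ≤ RingHom.ker (j.comp (MvPolynomial.aeval x)) := by
      change RingHom.ker π.toRingHom ≤ _
      rw [show RingHom.ker π.toRingHom = Ideal.span (rel : Set (MvPolynomial (Fin n) A)) from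
        hrel.symm, Ideal.span_le]
      intro f hf
      show j (MvPolynomial.aeval x f) = 0
      have hU : IsUnit (algebraMap A L (u ⟨f, hf⟩)) := by
        refine isUnit_of_dvd_unit (map_dvd _ ?_) (isUnit_of_mul_isUnit_right hs)
        exact Finset.dvd_prod_of_mem _ (Finset.mem_univ _)
      apply hU.mul_left_cancel
      rw [mul_zero, ← j.commutes, ← map_mul, hu ⟨f, hf⟩, map_zero]
    exact this hz
  refine ⟨(Ideal.Quotient.liftₐ (RingHom.ker π) (j.comp (MvPolynomial.aeval x)) hker).comp
    (Ideal.quotientKerAlgEquivOfSurjective hπ).symm.toAlgHom, bL, ?_⟩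
  refine (AlgHom.cancel_right hπ).1 (MvPolynomial.algHom_ext fun k => ?_)
  have h1 : (Ideal.quotientKerAlgEquivOfSurjective hπ).symm (π (MvPolynomial.X k)) =
      Ideal.Quotient.mk (RingHom.ker π) (MvPolynomial.X k) := by
    rw [AlgEquiv.symm_apply_eq]; rfl
  show bL (Ideal.Quotient.liftₐ (RingHom.ker π) (j.comp (MvPolynomial.aeval x)) hker
    ((Ideal.quotientKerAlgEquivOfSurjective hπ).symm (π (MvPolynomial.X k)))) = g (π (MvPolynomial.X k))
  rw [h1]
  show bL (j (MvPolynomial.aeval x (MvPolynomial.X k))) = _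
  rw [MvPolynomial.aeval_X, ← hbx]
  exact AlgHom.congr_fun (IsLocalization.algHom_ext (Submonoid.powers (t : A))
    (f := bL.comp j) (g := bT) (Subsingleton.elim _ _)) (x k)

theorem isIndEtale_of_isLocalization {B : Type u} [CommRing B] [Algebra A B] (S : Submonoid A)
    [IsLocalization S B] : EtPBC.IsIndEtale A B := by
  refine of_exists_etale fun Z _ _ _ g => ?_
  obtain ⟨s, -, a, b, h⟩ := exists_away_factor S g
  haveI : Algebra.Etale A (Localization.Away s) := Algebra.Etale.of_isLocalizationAway s
  exact ⟨Localization.Away s, inferInstance, inferInstance, inferInstance, a, b, h⟩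

/-- Etale retractions pass to localizations along closed subsets. -/
theorem hasEtaleRetractions_localization {B : Type u} [CommRing B] [Algebra A B] (S : Submonoid A)
    [IsLocalization S B] (I : Ideal A)
    (hB : Set.range (comap (algebraMap A B)) = {x | ∃ z : PrimeSpectrum A, z ∈ zeroLocus (I : Set A) ∧ x ⤳ z})
    (hA : ProEtW.HasEtaleRetractions A) : ProEtW.HasEtaleRetractions B := by
  intro C _ _ _ _
  obtain ⟨A₀, C₀, _, _, hfg, het, ⟨e⟩⟩ := Algebra.Etale.exists_subalgebra_fg ℤ B C
  haveI : Algebra.FiniteType ℤ A₀ := (Subalgebra.fg_iff_finiteType A₀).1 hfg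
  haveI : Algebra.FinitePresentation ℤ A₀ :=
    Algebra.FinitePresentation.of_finiteType.1 inferInstance
  let P := A ⊗[ℤ] A₀
  let gP : P →ₐ[A] B := Algebra.TensorProduct.lift (Algebra.ofId A B) A₀.val (fun _ _ => Commute.all _ _)
  obtain ⟨s, -, a, b, hab⟩ := exists_away_factor S gP
  let L := Localization.Away s
  letI : Algebra A₀ L := (a.toRingHom.comp Algebra.TensorProduct.includeRight.toRingHom).toAlgebra
  haveI : Algebra.Etale A L := Algebra.Etale.of_isLocalizationAway s
  haveI : Algebra.Etale A₀ C₀ := het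
  let C₁ := L ⊗[A₀] C₀
  letI : Algebra A C₁ := Algebra.TensorProduct.leftAlgebra
  haveI : Algebra.Etale A C₁ := Algebra.Etale.comp A L C₁
  letI : Algebra L B := b.toRingHom.toAlgebra
  have hLB : ∀ r : A₀, algebraMap L B (algebraMap A₀ L r) = r.1 := fun r => by
    show b (a ((1 : A) ⊗ₜ[ℤ] r)) = r.1
    rw [← AlgHom.comp_apply, hab]
    exact (Algebra.TensorProduct.lift_tmul _ _ _ _ _).trans (by rw [map_one, one_mul]; rfl)
  haveI : IsScalarTower A₀ L B := IsScalarTower.of_algebraMap_eq fun r => (hLB r).symm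
  letI : Algebra A₀ (B ⊗[A₀] C₀) := Algebra.TensorProduct.leftAlgebra
  let ι₀ : C₁ →ₐ[A₀] B ⊗[A₀] C₀ :=
    Algebra.TensorProduct.map (IsScalarTower.toAlgHom A₀ L B) (AlgHom.id A₀ C₀)
  let ι : C₁ →+* C := e.symm.toRingHom.comp ι₀.toRingHom
  have hι : ι.comp (algebraMap A C₁) = (algebraMap B C).comp (algebraMap A B) := by
    ext r
    show e.symm (ι₀ (algebraMap A L r ⊗ₜ[A₀] (1 : C₀))) = algebraMap B C (algebraMap A B r)
    rw [Algebra.TensorProduct.map_tmul]
    show e.symm (algebraMap B (B ⊗[A₀] C₀) (b (algebraMap A L r))) = _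
    rw [AlgEquiv.commutes, AlgHom.commutes]
  have hrange : zeroLocus (I : Set A) ⊆ Set.range (comap (algebraMap A C₁)) := by
    intro z hz
    have : z ∈ Set.range (comap (algebraMap A B)) := hB ▸ ⟨z, hz, specializes_rfl⟩
    obtain ⟨q, rfl⟩ := this
    obtain ⟨w, rfl⟩ := comap_surjective_of_faithfullyFlat (A := B) (B := C) q
    exact ⟨comap ι w, by rw [← comap_comp_apply, hι, comap_comp_apply]⟩
  obtain ⟨g, hg, hgg, ⟨ψ⟩⟩ := exists_retraction_mod hA C₁ I hrange
  have hgB : algebraMap A B (1 - g) = 0 := by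
    have hu : IsUnit (algebraMap A B g) := by
      by_contra hu
      obtain ⟨M, hM, hgM⟩ := exists_max_ideal_of_mem_nonunits hu
      have : comap (algebraMap A B) ⟨M, hM.isPrime⟩ ∈ Set.range (comap (algebraMap A B)) := ⟨_, rfl⟩
      rw [hB] at this
      obtain ⟨z, hz, hxz⟩ := this
      have hgz : g ∈ z.asIdeal := (le_iff_specializes _ _).2 hxz hgM
      exact z.isPrime.ne_top ((Ideal.eq_top_iff_one _).2
        (by simpa using z.asIdeal.add_mem (hz hg) hgz))
    apply hu.mul_left_cancel
    rw [← map_mul, mul_sub, mul_one, hgg, sub_self, map_zero, mul_zero]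
  let χ : C₁ →ₐ[A] B :=
    (Ideal.Quotient.liftₐ (Ideal.span {1 - g}) (Algebra.ofId A B) (fun y hy => by
      obtain ⟨c, rfl⟩ := Ideal.mem_span_singleton'.1 hy
      simp [Algebra.ofId_apply, map_mul, hgB])).comp ψ
  have hχL : ∀ l : L, χ (l ⊗ₜ[A₀] 1) = b l := fun l =>
    AlgHom.congr_fun (IsLocalization.algHom_ext (Submonoid.powers s)
      (f := χ.comp (Algebra.TensorProduct.includeLeft (R := A₀) (S := A) (A := L) (B := C₀)))
      (g := b) (Subsingleton.elim _ _)) l
  let χ₀ : C₀ →ₐ[A₀] B :=
    { χ.toRingHom.comp Algebra.TensorProduct.includeRight.toRingHom with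
      commutes' := fun r => by
        show χ ((1 : L) ⊗ₜ[A₀] algebraMap A₀ C₀ r) = r.1
        rw [show (1 : L) ⊗ₜ[A₀] algebraMap A₀ C₀ r = algebraMap A₀ L r ⊗ₜ[A₀] (1 : C₀) by
          rw [Algebra.algebraMap_eq_smul_one, Algebra.algebraMap_eq_smul_one, smul_tmul], hχL]
        exact hLB r }
  exact ⟨(Algebra.TensorProduct.lift (Algebra.ofId B B) χ₀ (fun _ _ => Commute.all _ _)).comp
    e.toAlgHom⟩

end GrothLib.IndEt
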