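import Groth.Agent.Lib.IndEt.Basic
import Groth.Agent.Lib.Hensel.HullExtra
import Mathlib.RingTheory.FinitePresentation

/-!
# Algebraic criterion for ind-étale algebras
-/

set_option autoImplicit false

universe u

open CategoryTheory Limits TensorProduct

namespace GrothLib.IndEt

attribute [local instance] Cardinal.fact_isRegular_aleph0

variable {A B : Type u} [CommRing A] [CommRing B] [Algebra A B]

/-- A map from a finitely presented algebra to an ind-étale algebra factors through an étale one. -/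
theorem exists_etale (h : EtPBC.IsIndEtale A B) {Z : Type u} [CommRing Z] [Algebra A Z]
    [Algebra.FinitePresentation A Z] (g : Z →ₐ[A] B) :
    ∃ (V : Type u) (_ : CommRing V) (_ : Algebra A V) (_ : Algebra.Etale A V)
      (a : Z →ₐ[A] V) (b : V →ₐ[A] B), b.comp a = g := by
  obtain ⟨J, _, _, D, c, hc, het, ⟨e⟩⟩ := h
  haveI : IsFinitelyPresentable.{u} (Under.mk (CommRingCat.ofHom (algebraMap A Z))) :=
    CommRingCat.isFinitelyPresentable_under _ _ ((RingHom.finitePresentation_algebraMap (A := A) (B := Z)).2 ‹_›)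
  let g' : Under.mk (CommRingCat.ofHom (algebraMap A Z)) ⟶ c.pt :=
    Under.homMk (CommRingCat.ofHom g.toRingHom) (by ext a; exact g.commutes a) ≫ e.inv
  obtain ⟨j, p, hp⟩ := IsFinitelyPresentable.exists_hom_of_isColimit hc g'
  letI : Algebra A (D.obj j).right := (D.obj j).hom.hom.toAlgebra
  refine ⟨(D.obj j).right, inferInstance, inferInstance, het j,
    { p.right.hom with commutes' := fun a => congr($(Under.w p) a) },
    { (c.ι.app j ≫ e.hom).right.hom with
      commutes' := fun a => congr($(Under.w (c.ι.app j ≫ e.hom)) a) }, ?_⟩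
  have : p ≫ (c.ι.app j ≫ e.hom) = Under.homMk (U := Under.mk (CommRingCat.ofHom (algebraMap A Z)))
      (V := Under.mk (CommRingCat.ofHom (algebraMap A B)))
      (CommRingCat.ofHom g.toRingHom) (by ext a; exact g.commutes a) := by
    rw [← Category.assoc, hp]
    simp [g']
  ext z
  exact congr($(congrArg CommaMorphism.right this) z)

/-- An algebra such that every map from a finitely presented algebra factors through an étale
algebra is ind-étale. -/
theorem of_exists_etale
    (h : ∀ (Z : Type u) [CommRing Z] [Algebra A Z] [Algebra.FinitePresentation A Z] (g : Z →ₐ[A] B),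
      ∃ (V : Type u) (_ : CommRing V) (_ : Algebra A V) (_ : Algebra.Etale A V)
        (a : Z →ₐ[A] V) (b : V →ₐ[A] B), b.comp a = g) :
    EtPBC.IsIndEtale A B := by
  refine Hensel.isIndEtale_of_algEquiv (Hensel.Hull.isIndEtale A B)
    (AlgEquiv.ofBijective (Hensel.Hull.proj (A := A) (C := B)) ⟨?_, ?_⟩)
  · refine (injective_iff_map_eq_zero _).2 fun z hz => ?_
    obtain ⟨N, x, rfl⟩ := Hensel.Hull.exists_ι z
    rw [Hensel.Hull.proj_ι] at hz
    let I : Ideal N.Ring := Ideal.span {x}
    haveI : Algebra.FinitePresentation A (N.Ring ⧸ I) :=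
      Algebra.FinitePresentation.quotient ⟨{x}, by simp [I]⟩
    have hI : ∀ y ∈ I, N.pt y = 0 := fun y hy => by
      obtain ⟨r, rfl⟩ := Ideal.mem_span_singleton'.1 hy
      simp [hz]
    obtain ⟨V, _, _, _, a, b, hab⟩ := h (N.Ring ⧸ I) (Ideal.Quotient.liftₐ I N.pt hI)
    obtain ⟨M, e, he⟩ := Hensel.Nbhd.exists_iso V b
    let f : N ⟶ M := ⟨e.toAlgHom.comp (a.comp (Ideal.Quotient.mkₐ A I)), by
      rw [← AlgHom.comp_assoc, he, ← AlgHom.comp_assoc, hab]
      ext y
      simp⟩
    rw [← Hensel.Hull.ι_map f x]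
    show Hensel.Hull.ι M (e (a (Ideal.Quotient.mk I x))) = 0
    rw [(Ideal.Quotient.eq_zero_iff_mem (I := I)).2 (Ideal.subset_span (Set.mem_singleton x))]
    simp
  · intro y
    obtain ⟨V, _, _, _, a, b, hab⟩ := h (MvPolynomial PUnit.{u+1} A) (MvPolynomial.aeval fun _ => y)
    obtain ⟨M, e, he⟩ := Hensel.Nbhd.exists_iso V b
    refine ⟨Hensel.Hull.ι M (e (a (MvPolynomial.X PUnit.unit))), ?_⟩
    rw [Hensel.Hull.proj_ι]
    have h1 := AlgHom.congr_fun he (a (MvPolynomial.X PUnit.unit))
    have h2 := AlgHom.congr_fun hab (MvPolynomial.X PUnit.unit)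
    simp at h1 h2
    rw [h1, h2]

/-- Finitely many elements of an ind-étale algebra come from an étale algebra. -/
theorem exists_etale_lift (h : EtPBC.IsIndEtale A B) {ι : Type} [Finite ι] (y : ι → B) :
    ∃ (V : Type u) (_ : CommRing V) (_ : Algebra A V) (_ : Algebra.Etale A V) (b : V →ₐ[A] B)
      (x : ι → V), ∀ i, b (x i) = y i := by
  obtain ⟨V, _, _, _, a, b, hab⟩ := exists_etale h (MvPolynomial.aeval (R := A) fun i : ULift.{u} ι => y i.down)
  refine ⟨V, inferInstance, inferInstance, inferInstance, b, fun i => a (MvPolynomial.X ⟨i⟩), fun i => ?_⟩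
  have := AlgHom.congr_fun hab (MvPolynomial.X ⟨i⟩)
  simpa using this

/-- Relations in an ind-étale algebra hold in an étale algebra. -/
theorem exists_etale_ker (h : EtPBC.IsIndEtale A B) {V : Type u} [CommRing V] [Algebra A V]
    [Algebra.FinitePresentation A V] (v : V →ₐ[A] B) {ι : Type*} [Finite ι] (x : ι → V)
    (hx : ∀ i, v (x i) = 0) :
    ∃ (W : Type u) (_ : CommRing W) (_ : Algebra A W) (_ : Algebra.Etale A W) (a : V →ₐ[A] W)
      (b : W →ₐ[A] B), b.comp a = v ∧ ∀ i, a (x i) = 0 := by
  let I : Ideal V := Ideal.span (Set.range x)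
  haveI : Algebra.FinitePresentation A (V ⧸ I) :=
    Algebra.FinitePresentation.quotient (Submodule.fg_span (Set.finite_range x))
  have hI : ∀ y ∈ I, v y = 0 := fun y hy => by
    have : I ≤ RingHom.ker v := Ideal.span_le.2 (by rintro _ ⟨i, rfl⟩; exact hx i)
    exact this hy
  obtain ⟨W, _, _, _, a, b, hab⟩ := exists_etale h (Ideal.Quotient.liftₐ I v hI)
  refine ⟨W, inferInstance, inferInstance, inferInstance, a.comp (Ideal.Quotient.mkₐ A I), b, ?_,
    fun i => ?_⟩
  · rw [← AlgHom.comp_assoc, hab]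
    ext y
    simp
  · show a (Ideal.Quotient.mk I (x i)) = 0
    rw [(Ideal.Quotient.eq_zero_iff_mem (I := I)).2 (Ideal.subset_span (Set.mem_range_self i)), map_zero]

end GrothLib.IndEt
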