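import Groth.Agent.Lib.IndEt.Basic
import Mathlib.Algebra.Category.Ring.Constructions
import Mathlib.RingTheory.FinitePresentation

/-!
# Ind-étale maps are stable under composition
-/

set_option autoImplicit false

universe u

open CategoryTheory Limits TensorProduct

namespace GrothLib.IndEt

attribute [local instance] Cardinal.fact_isRegular_aleph0

theorem ext_ulift_int {X : Type u} [Semiring X] (f g : ULift.{u} ℤ →+* X) : f = g := by
  apply RingHom.ext
  intro x
  have := RingHom.congr_fun (RingHom.ext_int (f.comp (ULift.ringEquiv (R := ℤ)).symm.toRingHom)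
    (g.comp (ULift.ringEquiv (R := ℤ)).symm.toRingHom)) x.down
  exact this

instance preIndSpreads_etale : MorphismProperty.PreIndSpreads.{u} etaleProp.{u} where
  exists_isPushout {J _ _ D c} hc {T} f hf := by
    letI : Algebra c.pt T := f.hom.toAlgebra
    haveI : Algebra.Etale c.pt T := hf
    obtain ⟨A₀, B₀, _, _, hfg, het, ⟨e⟩⟩ := Algebra.Etale.exists_subalgebra_fg ℤ c.pt T
    haveI : Algebra.FiniteType ℤ A₀ := (Subalgebra.fg_iff_finiteType A₀).1 hfg
    haveI : Algebra.FinitePresentation ℤ A₀ := Algebra.FinitePresentation.of_finiteType.1 inferInstance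
    let R : CommRingCat.{u} := CommRingCat.of (ULift.{u} ℤ)
    let s : R ⟶ CommRingCat.of A₀ :=
      CommRingCat.ofHom ((algebraMap ℤ A₀).comp (ULift.ringEquiv (R := ℤ)).toRingHom)
    have hs : s.hom.FinitePresentation :=
      (RingHom.finitePresentation_algebraMap.2 ‹Algebra.FinitePresentation ℤ A₀›).comp
        (RingHom.FinitePresentation.of_surjective _ (ULift.ringEquiv (R := ℤ)).surjective
          (by rw [(RingHom.injective_iff_ker_eq_bot (ULift.ringEquiv (R := ℤ)).toRingHom).1 (ULift.ringEquiv (R := ℤ)).injective]; exact Submodule.fg_bot))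
    let α : (Functor.const J).obj R ⟶ D :=
      { app := fun j => CommRingCat.ofHom
          ((Int.castRingHom (D.obj j)).comp (ULift.ringEquiv (R := ℤ)).toRingHom)
        naturality := fun _ _ _ => CommRingCat.hom_ext (ext_ulift_int _ _) }
    obtain ⟨j, g', -, hg'⟩ := RingHom.EssFiniteType.exists_eq_comp_ι_app_of_isColimit R D α s c hc hs
      (CommRingCat.ofHom A₀.val.toRingHom) (fun _ => CommRingCat.hom_ext (ext_ulift_int _ _))
    let b₀ : CommRingCat.of A₀ ⟶ CommRingCat.of B₀ := CommRingCat.ofHom (algebraMap A₀ B₀)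
    let bT : CommRingCat.of B₀ ⟶ T :=
      CommRingCat.ofHom (e.symm.toRingHom.comp Algebra.TensorProduct.includeRight.toRingHom)
    have big : IsPushout (g' ≫ c.ι.app j) b₀ f bT := by
      rw [← hg']
      refine (CommRingCat.isPushout_tensorProduct A₀ c.pt B₀).of_iso (Iso.refl _) (Iso.refl _)
        (Iso.refl _) e.symm.toRingEquiv.toCommRingCatIso ?_ ?_ ?_ ?_
      · ext a; rfl
      · ext a; rfl
      · ext a; exact e.symm.commutes a
      · ext a; rfl
    refine ⟨j, pushout g' b₀, pushout.inl _ _, pushout.desc (c.ι.app j ≫ f) bT (by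
      rw [← Category.assoc, big.w]), ?_, etaleProp.pushout_inl _ _ ?_⟩
    · refine IsPushout.of_left ?_ (pushout.inl_desc _ _ _).symm (IsPushout.of_hasPushout g' b₀)
      rw [pushout.inr_desc]
      exact big
    · exact (RingHom.etale_algebraMap (R := A₀) (S := B₀)).2 het

theorem isStableUnderComposition_ind :
    (MorphismProperty.ind.{u} etaleProp.{u}).IsStableUnderComposition :=
  MorphismProperty.IsStableUnderComposition.ind_of_preIndSpreads etaleProp_le

theorem isIndEtale_trans {A B C : Type u} [CommRing A] [CommRing B] [CommRing C] [Algebra A B]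
    [Algebra B C] [Algebra A C] [IsScalarTower A B C] (hAB : EtPBC.IsIndEtale A B)
    (hBC : EtPBC.IsIndEtale B C) : EtPBC.IsIndEtale A C := by
  rw [isIndEtale_iff] at hAB hBC ⊢
  haveI := isStableUnderComposition_ind.{u}
  rw [IsScalarTower.algebraMap_eq A B C, CommRingCat.ofHom_comp]
  exact MorphismProperty.comp_mem _ _ _ hAB hBC

theorem isIndEtale_baseChange {A B A' : Type u} [CommRing A] [CommRing B] [CommRing A']
    [Algebra A B] [Algebra A A'] (h : EtPBC.IsIndEtale A B) :
    EtPBC.IsIndEtale A' (A' ⊗[A] B) := by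
  rw [isIndEtale_iff] at h ⊢
  exact MorphismProperty.of_isPushout (CommRingCat.isPushout_tensorProduct A A' B) h

end GrothLib.IndEt
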