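import Groth.Prelude.Def_PBC
import Mathlib.CategoryTheory.Presentable.StrongGenerator
import Mathlib.Algebra.Category.Ring.FinitePresentation
import Mathlib.CategoryTheory.MorphismProperty.Ind
import Mathlib.Algebra.Category.Ring.Colimits
import Mathlib.Algebra.Category.Ring.Under.Limits
import Mathlib.CategoryTheory.Limits.Over
import Mathlib.RingTheory.RingHom.Etale
import Mathlib.RingTheory.Smooth.NoetherianDescent
import Mathlib.RingTheory.Polynomial.Basic

/-!
# Ind-étale algebras via `MorphismProperty.ind`
-/

set_option autoImplicit false

universe u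

open CategoryTheory Limits Polynomial TensorProduct

namespace GrothLib.IndEt

attribute [local instance] Cardinal.fact_isRegular_aleph0

/-- Algebras over a ring form a locally finitely presentable category. -/
instance isLocallyFinitelyPresentable_under (R : CommRingCat.{u}) :
    IsLocallyFinitelyPresentable.{u} (Under R) := by
  rw [IsLocallyFinitelyPresentable, IsCardinalLocallyPresentable.iff_exists_isStrongGenerator]
  let G : Under R := Under.mk (CommRingCat.ofHom (Polynomial.C : R →+* Polynomial R))
  have ev : ∀ {X : Under R} (x : X.right), ∃ f : G ⟶ X, f.right (Polynomial.X : Polynomial R) = x :=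
    fun {X} x => ⟨Under.homMk (CommRingCat.ofHom (Polynomial.eval₂RingHom X.hom.hom x))
      (by ext r; exact Polynomial.eval₂_C _ _), Polynomial.eval₂_X _ _⟩
  have hsep : (ObjectProperty.singleton G).IsSeparating := fun X Y f g h => by
    apply Under.UnderMorphism.ext
    ext x
    obtain ⟨a, ha⟩ := ev x
    have := congr($(congrArg CommaMorphism.right (h G ((ObjectProperty.singleton_iff G G).2 rfl) a))
      (Polynomial.X : Polynomial R))
    simpa [ha] using this
  refine ⟨ObjectProperty.singleton G, inferInstance, ?_, ?_⟩
  · rw [ObjectProperty.isStrongGenerator_iff]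
    refine ⟨hsep, fun X Y i _ h => ?_⟩
    have hb : Function.Bijective i.right := by
      refine ⟨fun x x' hx => ?_, fun y => ?_⟩
      · obtain ⟨a, ha⟩ := ev x
        obtain ⟨a', ha'⟩ := ev x'
        have : a = a' := by
          rw [← cancel_mono i]
          apply Under.UnderMorphism.ext
          ext : 1
          apply Polynomial.ringHom_ext
          · intro r
            have h1 := congr($(Under.w (a ≫ i)) r)
            have h2 := congr($(Under.w (a' ≫ i)) r)
            exact h1.trans h2.symm
          · show i.right (a.right _) = i.right (a'.right _)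
            rw [ha, ha', hx]
        rw [← ha, ← ha', this]
      · obtain ⟨b, hb⟩ := ev y
        obtain ⟨a, rfl⟩ := h G ((ObjectProperty.singleton_iff G G).2 rfl) b
        exact ⟨a.right (Polynomial.X : Polynomial R), hb⟩
    have : IsIso i.right := (ConcreteCategory.isIso_iff_bijective _).2 hb
    haveI : IsIso ((Under.forget R).map i) := this
    exact isIso_of_reflects_iso i (Under.forget R)
  · rintro X ⟨⟩
    refine CommRingCat.isFinitelyPresentable_under R G ?_
    letI : Algebra R G.right := (inferInstance : Algebra R (Polynomial R))
    exact RingHom.finitePresentation_algebraMap.2 (inferInstance : Algebra.FinitePresentation R (Polynomial R))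

/-- Étale ring maps. -/
abbrev etaleProp : MorphismProperty CommRingCat.{u} := RingHom.toMorphismProperty RingHom.Etale

instance : etaleProp.{u}.RespectsIso :=
  RingHom.toMorphismProperty_respectsIso_iff.1 RingHom.Etale.respectsIso

instance : etaleProp.{u}.IsStableUnderCobaseChange :=
  RingHom.isStableUnderCobaseChange_toMorphismProperty_iff.2 RingHom.Etale.isStableUnderBaseChange

instance : etaleProp.{u}.IsStableUnderComposition where
  comp_mem f g hf hg := RingHom.Etale.stableUnderComposition _ _ hf hg

theorem etaleProp_le : etaleProp.{u} ≤ MorphismProperty.isFinitelyPresentable.{u} CommRingCat.{u} :=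
  fun _ _ f hf => CommRingCat.isFinitelyPresentable_hom f
    (RingHom.Etale.iff_flat_and_formallyUnramified.1 hf).2.2

/-- `IsIndEtale` is `MorphismProperty.ind`. -/
theorem isIndEtale_iff {A B : Type u} [CommRing A] [CommRing B] [Algebra A B] :
    EtPBC.IsIndEtale A B ↔
      MorphismProperty.ind.{u} etaleProp (CommRingCat.ofHom (algebraMap A B)) := by
  rw [MorphismProperty.ind_iff_ind_underMk]
  constructor
  · rintro ⟨J, _, _, D, c, hc, het, ⟨e⟩⟩
    exact ⟨J, inferInstance, inferInstance, ColimitPresentation.ofIso ⟨D, c.ι, hc⟩ e,
      fun j => het j⟩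
  · rintro ⟨J, _, _, pres, hP⟩
    exact ⟨J, inferInstance, inferInstance, pres.diag, pres.cocone, pres.isColimit,
      fun j => hP j, ⟨Iso.refl _⟩⟩

end GrothLib.IndEt
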