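import Groth.Agent.Lib.Hensel.LocalCriteria
import Groth.Prelude.Def_EtBase
import Groth.Prelude.Def_ProEtW
import Mathlib.RingTheory.Etale.StandardEtale
import Mathlib.FieldTheory.IsSepClosed
import Mathlib.RingTheory.Smooth.Flat

/-!
# Local rings with étale retractions are strictly henselian
-/

set_option autoImplicit false

universe u

open IsLocalRing Polynomial

namespace GrothLib.IndEt

variable {R : Type u} [CommRing R] [IsLocalRing R]

theorem faithfullyFlat_standard (P : StandardEtalePair R) {K : Type u} [Field K]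
    [Algebra R K] (hK : ∀ r ∈ maximalIdeal R, algebraMap R K r = 0) {x : K} (hx : P.HasMap x) :
    Module.FaithfullyFlat R P.Ring := by
  haveI : Module.Flat R P.Ring := Algebra.Smooth.flat R P.Ring
  refine { submodule_ne_top := fun m hm h => ?_ }
  obtain rfl := eq_maximalIdeal hm
  have h1 : (1 : P.Ring) ∈ maximalIdeal R • (⊤ : Submodule R P.Ring) := by rw [h]; exact Submodule.mem_top
  have key : ∀ y ∈ maximalIdeal R • (⊤ : Submodule R P.Ring), P.lift x hx y = 0 := fun y hy => by
    refine Submodule.smul_induction_on hy (fun r hr z _ => ?_) (fun a b ha hb => ?_)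
    · rw [map_smul, Algebra.smul_def, hK r hr, zero_mul]
    · rw [map_add, ha, hb, add_zero]
  exact one_ne_zero ((map_one (P.lift x hx)).symm.trans (key 1 h1))

theorem strictlyHenselian_of_hasEtaleRetractions (h : ProEtW.HasEtaleRetractions R) :
    EtCoh.IsStrictlyHenselianLocalRing R := by
  haveI hh : HenselianLocalRing R := Hensel.henselianLocalRing_of_retraction fun f hf a₀ h₁ h₂ =>
    h _ (faithfullyFlat_standard _ (K := ResidueField R)
      (fun r hr => (residue_eq_zero_iff r).2 hr) (Hensel.pointPair_hasMap f hf a₀ h₁ h₂)) inferInstance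
  refine ⟨hh, IsSepClosed.of_exists_root _ fun p hp hirr hsep => ?_⟩
  obtain ⟨f, hf, -, hfm⟩ := lifts_and_natDegree_eq_and_monic
    ((lifts_iff_coeff_lifts _).2 fun n => residue_surjective (p.coeff n)) hp
  haveI : Fact (Irreducible p) := ⟨hirr⟩
  let P : StandardEtalePair R := ⟨f, hfm, f.derivative, ⟨1, 0, 1, by simp⟩⟩
  have hx : P.HasMap (AdjoinRoot.root p) := by
    refine ⟨?_, Ne.isUnit ?_⟩
    · rw [show P.f = f from rfl, ← aeval_map_algebraMap (ResidueField R),
        ResidueField.algebraMap_eq, hf, AdjoinRoot.aeval_eq, AdjoinRoot.mk_self]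
    · show aeval (AdjoinRoot.root p) (derivative f) ≠ 0
      rw [← aeval_map_algebraMap (ResidueField R), ← derivative_map, ResidueField.algebraMap_eq, hf]
      refine Separable.aeval_derivative_ne_zero hsep ?_
      rw [AdjoinRoot.aeval_eq, AdjoinRoot.mk_self]
  obtain ⟨τ⟩ := h P.Ring (faithfullyFlat_standard P (K := AdjoinRoot p) (fun r hr => by
    rw [IsScalarTower.algebraMap_apply R (ResidueField R), ResidueField.algebraMap_eq,
      (residue_eq_zero_iff r).2 hr, map_zero]) hx) inferInstance
  refine ⟨residue R (τ P.X), ?_⟩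
  have h0 : aeval (τ P.X) f = 0 := (StandardEtalePair.hasMap_X.map τ).1
  rw [← hf, eval_map]
  refine (hom_eval₂ f (RingHom.id R) (residue R) (τ P.X)).symm.trans ?_
  rw [show f.eval₂ (RingHom.id R) (τ P.X) = 0 from h0, map_zero]

end GrothLib.IndEt
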