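import Groth.Agent.Lib.IndEt.Idempotents
import Mathlib.RingTheory.Localization.AtPrime.Basic

/-!
# Ind-Zariski maps identify local rings
-/

set_option autoImplicit false

universe u

namespace GrothLib.IndEt

variable {A B : Type u} [CommRing A] [CommRing B] [Algebra A B]

/-- Elementwise criterion for a map to identify local rings at a prime. -/
theorem bijective_localRingHom (q : Ideal B) [q.IsPrime]
    (hinj : ∀ (a : A) (c : B), c ∉ q → c * algebraMap A B a = 0 →
      ∃ s : A, s ∉ q.comap (algebraMap A B) ∧ s * a = 0)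
    (hsurj : ∀ b : B, ∃ (a s : A) (c : B), s ∉ q.comap (algebraMap A B) ∧ c ∉ q ∧
      c * (algebraMap A B s * b - algebraMap A B a) = 0) :
    Function.Bijective (Localization.localRingHom (q.comap (algebraMap A B)) q (algebraMap A B) rfl) := by
  let p := q.comap (algebraMap A B)
  let φ := Localization.localRingHom p q (algebraMap A B) rfl
  refine ⟨(injective_iff_map_eq_zero φ).2 fun x hx => ?_, fun y => ?_⟩
  · obtain ⟨a, t, rfl⟩ := IsLocalization.exists_mk'_eq p.primeCompl x
    rw [Localization.localRingHom_mk', IsLocalization.mk'_eq_zero_iff] at hx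
    obtain ⟨⟨c, hc⟩, hca⟩ := hx
    obtain ⟨s, hs, hsa⟩ := hinj a c hc hca
    exact (IsLocalization.mk'_eq_zero_iff _ _).2 ⟨⟨s, hs⟩, hsa⟩
  · obtain ⟨b, d, rfl⟩ := IsLocalization.exists_mk'_eq q.primeCompl y
    have hone : ∀ b : B, ∃ x, φ x = algebraMap B (Localization.AtPrime q) b := fun b => by
      obtain ⟨a, s, c, hs, hc, h⟩ := hsurj b
      refine ⟨IsLocalization.mk' _ a (⟨s, hs⟩ : p.primeCompl), ?_⟩
      rw [Localization.localRingHom_mk', IsLocalization.mk'_eq_iff_eq_mul, ← map_mul,
        IsLocalization.eq_iff_exists q.primeCompl]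
      exact ⟨⟨c, hc⟩, by linear_combination -h⟩
    obtain ⟨x, hx⟩ := hone b
    obtain ⟨z, hz⟩ := hone d
    have hzu : IsUnit z := by
      have : IsLocalHom φ := Localization.isLocalHom_localRingHom _ _ _ _
      exact this.map_nonunit z (hz ▸ IsLocalization.map_units _ d)
    obtain ⟨z, rfl⟩ := hzu
    refine ⟨x * ((z⁻¹ : (Localization.AtPrime p)ˣ) : Localization.AtPrime p), ?_⟩
    rw [IsLocalization.eq_mk'_iff_mul_eq, ← hz, ← hx, ← map_mul, mul_assoc, Units.inv_mul, mul_one]

variable {V : Type u} [CommRing V] [Algebra A V]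

theorem localIso_inj [Algebra.IsLocalIso A V] (q : Ideal V) [q.IsPrime] {a : A} {c : V}
    (hc : c ∉ q) (h : c * algebraMap A V a = 0) :
    ∃ s : A, s ∉ q.comap (algebraMap A V) ∧ s * a = 0 := by
  obtain ⟨g, hg, himm⟩ := Algebra.IsLocalIso.exists_notMem_isStandardOpenImmersion (R := A) q
  obtain ⟨r, hr⟩ := himm.exists_away
  let L := Localization.Away g
  haveI : (q.map (algebraMap V L)).IsPrime :=
    IsLocalization.isPrime_of_isPrime_disjoint (Submonoid.powers g) L q ‹_›
      ((Ideal.disjoint_powers_iff_notMem g (‹q.IsPrime›).isRadical).2 hg)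
  have hcomap : (q.map (algebraMap V L)).comap (algebraMap V L) = q :=
    IsLocalization.under_map_of_isPrime_disjoint (Submonoid.powers g) L ‹_›
      ((Ideal.disjoint_powers_iff_notMem g (‹q.IsPrime›).isRadical).2 hg)
  obtain ⟨⟨x, ⟨_, n, rfl⟩⟩, hx⟩ := IsLocalization.surj (Submonoid.powers r) (algebraMap V L c)
  have hru : IsUnit (algebraMap A L r) := IsLocalization.Away.algebraMap_isUnit r
  have hmem : ∀ y : A, y ∈ q.comap (algebraMap A V) ↔ algebraMap A L y ∈ q.map (algebraMap V L) := fun y => by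
    conv_lhs => rw [Ideal.mem_comap, ← hcomap, Ideal.mem_comap, ← IsScalarTower.algebraMap_apply]
  have hxp : x ∉ q.comap (algebraMap A V) := by
    rw [hmem, ← hx, map_pow, Ideal.mul_unit_mem_iff_mem _ (hru.pow n)]
    exact fun h' => hc (hcomap ▸ h')
  have hrp : r ∉ q.comap (algebraMap A V) := fun h' =>
    (‹(q.map (algebraMap V L)).IsPrime›).ne_top (Ideal.eq_top_of_isUnit_mem _ ((hmem r).1 h') hru)
  have h0 : algebraMap A L (x * a) = 0 := by
    rw [map_mul, ← hx, mul_right_comm, IsScalarTower.algebraMap_apply A V L a, ← map_mul, h,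
      map_zero, zero_mul]
  obtain ⟨⟨_, k, rfl⟩, hk⟩ := (IsLocalization.map_eq_zero_iff (Submonoid.powers r) L _).1 h0
  refine ⟨r ^ k * x, fun h' => ?_, by rw [mul_assoc]; exact hk⟩
  rcases (Ideal.IsPrime.comap (algebraMap A V) (hK := ‹q.IsPrime›)).mem_or_mem h' with h1 | h1
  · exact hrp ((Ideal.IsPrime.comap (algebraMap A V) (hK := ‹q.IsPrime›)).mem_of_pow_mem k h1)
  · exact hxp h1

theorem localIso_surj [Algebra.IsLocalIso A V] (q : Ideal V) [q.IsPrime] (b : V) :
    ∃ (a s : A) (c : V), s ∉ q.comap (algebraMap A V) ∧ c ∉ q ∧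
      c * (algebraMap A V s * b - algebraMap A V a) = 0 := by
  obtain ⟨g, hg, himm⟩ := Algebra.IsLocalIso.exists_notMem_isStandardOpenImmersion (R := A) q
  obtain ⟨r, hr⟩ := himm.exists_away
  let L := Localization.Away g
  have hru : IsUnit (algebraMap A L r) := IsLocalization.Away.algebraMap_isUnit r
  obtain ⟨⟨x, ⟨_, n, rfl⟩⟩, hx⟩ := IsLocalization.surj (Submonoid.powers r) (algebraMap V L b)
  have h0 : algebraMap V L (algebraMap A V (r ^ n) * b - algebraMap A V x) = 0 := by
    rw [map_sub, map_mul, ← IsScalarTower.algebraMap_apply, ← IsScalarTower.algebraMap_apply, ← hx]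
    ring
  obtain ⟨⟨_, k, rfl⟩, hk⟩ := (IsLocalization.map_eq_zero_iff (Submonoid.powers g) L _).1 h0
  refine ⟨x, r ^ n, g ^ k, fun h' => ?_, fun h' => hg (‹q.IsPrime›.mem_of_pow_mem k h'), hk⟩
  have hrq : algebraMap A V r ∈ q :=
    (‹q.IsPrime›).mem_of_pow_mem n (by rw [← map_pow]; exact h')
  haveI : (q.map (algebraMap V L)).IsPrime :=
    IsLocalization.isPrime_of_isPrime_disjoint (Submonoid.powers g) L q ‹_›
      ((Ideal.disjoint_powers_iff_notMem g (‹q.IsPrime›).isRadical).2 hg)
  exact (‹(q.map (algebraMap V L)).IsPrime›).ne_top (Ideal.eq_top_of_isUnit_mem _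
    (IsScalarTower.algebraMap_apply A V L r ▸ Ideal.mem_map_of_mem _ hrq) hru)

theorem identifiesLocalRings_of_isIndZariski (h : EtPBC.IsIndZariski A B) :
    EtPBC.IdentifiesLocalRings A B := by
  intro q
  refine bijective_localRingHom q.asIdeal (fun a c hc hca => ?_) fun b => ?_
  · obtain ⟨V, _, _, _, β, x, hx⟩ := exists_localIso_lift h (fun _ : Unit => c)
    haveI := etale_of_isLocalIso A V
    let I : Ideal V := Ideal.span {x () * algebraMap A V a}
    haveI : Algebra.FinitePresentation A (V ⧸ I) :=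
      Algebra.FinitePresentation.quotient (Submodule.fg_span (Set.finite_singleton _))
    have hI : ∀ y ∈ I, β y = 0 := fun y hy => by
      obtain ⟨w, rfl⟩ := Ideal.mem_span_singleton'.1 hy
      rw [map_mul, map_mul, hx, AlgHom.commutes, hca, mul_zero]
    obtain ⟨W, _, _, _, w, β', hw⟩ := exists_localIso h (Ideal.Quotient.liftₐ I β hI)
    obtain ⟨s, hs, hsa⟩ := localIso_inj (q.asIdeal.comap β') (a := a) (c := w (Ideal.Quotient.mk I (x ())))
      (fun h' => hc (by
        rw [Ideal.mem_comap, ← AlgHom.comp_apply, hw] at h'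
        exact (hx ()) ▸ h'))
      (by
        rw [← AlgHom.commutes w, ← map_mul, IsScalarTower.algebraMap_apply A V (V ⧸ I),
          Ideal.Quotient.algebraMap_eq, ← map_mul,
          (Ideal.Quotient.eq_zero_iff_mem (I := I)).2 (Ideal.subset_span (Set.mem_singleton _)), map_zero])
    refine ⟨s, fun h' => hs ?_, hsa⟩
    rw [Ideal.mem_comap, Ideal.mem_comap, AlgHom.commutes]
    exact h'
  · obtain ⟨V, _, _, _, β, x, hx⟩ := exists_localIso_lift h (fun _ : Unit => b)
    obtain ⟨a, s, c, hs, hc, h0⟩ := localIso_surj (A := A) (q.asIdeal.comap β) (x ())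
    refine ⟨a, s, β c, fun h' => hs ?_, hc, ?_⟩
    · rw [Ideal.mem_comap, Ideal.mem_comap, AlgHom.commutes]; exact h'
    · simpa [hx] using congrArg β h0

/-- Identifying local rings cancels on the left. -/
theorem identifiesLocalRings_of_comp {C : Type u} [CommRing C] [Algebra A C] [Algebra B C]
    [IsScalarTower A B C] (hB : EtPBC.IdentifiesLocalRings A B) (hC : EtPBC.IdentifiesLocalRings A C) :
    EtPBC.IdentifiesLocalRings B C := by
  intro q
  let r := q.asIdeal.comap (algebraMap B C)
  have hqp : q.asIdeal.comap (algebraMap A C) = r.comap (algebraMap A B) := by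
    rw [Ideal.comap_comap, ← IsScalarTower.algebraMap_eq]
  have h1 := hB ⟨r, Ideal.IsPrime.comap _⟩
  have h2 := hC q
  have heq : (Localization.localRingHom r q.asIdeal (algebraMap B C) rfl).comp
      (Localization.localRingHom (r.comap (algebraMap A B)) r (algebraMap A B) rfl) =
      Localization.localRingHom (r.comap (algebraMap A B)) q.asIdeal (algebraMap A C) hqp.symm := by
    rw [← Localization.localRingHom_comp]
    congr 1
    exact (IsScalarTower.algebraMap_eq A B C).symm
  have aux : ∀ (p₁ p₂ : Ideal A) [p₁.IsPrime] [p₂.IsPrime] (e₁ : p₁ = q.asIdeal.comap (algebraMap A C))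
      (e₂ : p₂ = q.asIdeal.comap (algebraMap A C)),
      Function.Bijective (Localization.localRingHom p₁ q.asIdeal (algebraMap A C) e₁) →
      Function.Bijective (Localization.localRingHom p₂ q.asIdeal (algebraMap A C) e₂) := by
    intro p₁ p₂ _ _ e₁ e₂ h
    subst e₁
    subst e₂
    exact h
  have h2' := aux _ _ rfl hqp.symm h2
  rw [← heq, RingHom.coe_comp] at h2'
  exact (Function.Bijective.of_comp_iff _ h1).1 h2'

end GrothLib.IndEt
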