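import Groth.Agent.Lib.WLocal.Square
import Groth.Agent.S1974
import Groth.Agent.S0692
import Groth.Agent.S0700

/-!
# Weakly étale algebras are ind-étale after a faithfully flat ind-étale extension
-/

set_option autoImplicit false

universe u

open PrimeSpectrum

namespace GrothLib.IndEt

theorem algebraicResidueExtensions_of_weaklyEtale (A B : Type u) [CommRing A] [CommRing B] [Algebra A B]
    [Algebra.WeaklyEtale A B] : ProEtW.AlgebraicResidueExtensions A B := fun q _ => by
  let p := q.comap (algebraMap A B)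
  haveI : q.LiesOver p := ⟨rfl⟩
  letI := Localization.AtPrime.algebraOfLiesOver p q
  haveI : Algebra.IsSeparable p.ResidueField q.ResidueField := Groth.Agent.S1974.result A B p q
  refine ⟨fun x => ?_⟩
  letI : Algebra (A ⧸ p) q.ResidueField :=
    ((algebraMap (B ⧸ q) q.ResidueField).comp (algebraMap (A ⧸ p) (B ⧸ q))).toAlgebra
  haveI : IsScalarTower (A ⧸ p) (B ⧸ q) q.ResidueField := IsScalarTower.of_algebraMap_eq fun _ => rfl
  haveI : IsScalarTower (A ⧸ p) p.ResidueField q.ResidueField := IsScalarTower.of_algebraMap_eq fun a => by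
    obtain ⟨a, rfl⟩ := Ideal.Quotient.mk_surjective a
    show algebraMap (B ⧸ q) q.ResidueField (algebraMap (A ⧸ p) (B ⧸ q) (algebraMap A (A ⧸ p) a)) =
      algebraMap p.ResidueField q.ResidueField (algebraMap (A ⧸ p) p.ResidueField (algebraMap A (A ⧸ p) a))
    rw [← IsScalarTower.algebraMap_apply A (A ⧸ p) p.ResidueField, ← IsScalarTower.algebraMap_apply A p.ResidueField q.ResidueField,
      ← IsScalarTower.algebraMap_apply A (A ⧸ p) (B ⧸ q), IsScalarTower.algebraMap_apply A B (B ⧸ q),
      ← IsScalarTower.algebraMap_apply B (B ⧸ q) q.ResidueField, ← IsScalarTower.algebraMap_apply A B q.ResidueField]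
  have h1 : IsAlgebraic p.ResidueField (algebraMap (B ⧸ q) q.ResidueField x) :=
    (Algebra.IsSeparable.isIntegral p.ResidueField _).isAlgebraic
  exact (isAlgebraic_algHom_iff (IsScalarTower.toAlgHom (A ⧸ p) (B ⧸ q) q.ResidueField)
    (IsFractionRing.injective _ _)).1 ((IsFractionRing.isAlgebraic_iff (A ⧸ p) p.ResidueField q.ResidueField).2 h1)

theorem identifiesLocalRings_of_maximal {A B : Type u} [CommRing A] [CommRing B] [Algebra A B]
    (h : ∀ (n : Ideal B) [n.IsMaximal],
      Function.Bijective (Localization.localRingHom (n.comap (algebraMap A B)) n (algebraMap A B) rfl)) :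
    EtPBC.IdentifiesLocalRings A B := by
  intro q
  obtain ⟨n, hn, hle⟩ := Ideal.exists_le_maximal q.asIdeal q.isPrime.ne_top
  obtain ⟨hinj, hsur⟩ := WLocal.local_elts (A := A) n (@h n hn)
  have hpm : q.asIdeal.comap (algebraMap A B) ≤ n.comap (algebraMap A B) := Ideal.comap_mono hle
  refine bijective_localRingHom q.asIdeal (fun a c hc hca => ?_) fun b => ?_
  · obtain ⟨a', s, e, hs, he, heq⟩ := hsur c
    obtain ⟨t, ht, hta⟩ := hinj (a' * a) e he (by
      rw [map_mul]; linear_combination (e * algebraMap A B s) * hca - algebraMap A B a * heq)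
    refine ⟨t * a', fun hmem => ?_, by rw [mul_assoc]; exact hta⟩
    rcases (Ideal.IsPrime.comap (algebraMap A B) (hK := q.isPrime)).mem_or_mem hmem with h' | h'
    · exact ht (hpm h')
    · have h1 : algebraMap A B s * c - algebraMap A B a' ∈ q.asIdeal :=
        (q.isPrime.mem_or_mem (heq ▸ q.asIdeal.zero_mem)).resolve_left fun h'' => he (hle h'')
      have h2 := q.asIdeal.add_mem h1 h'
      rw [sub_add_cancel] at h2
      rcases q.isPrime.mem_or_mem h2 with h3 | h3
      · exact hs (hpm h3)
      · exact hc h3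
  · obtain ⟨a, s, c, hs, hc, heq⟩ := hsur b
    exact ⟨a, s, c, fun h' => hs (hpm h'), fun h' => hc (hle h'), heq⟩

/-- Weakly étale algebras become ind-étale after a faithfully flat ind-étale extension. -/
theorem exists_indEtale_cover (A B : Type u) [CommRing A] [CommRing B] [Algebra A B]
    [Algebra.WeaklyEtale A B] :
    ∃ (D : Type u) (_ : CommRing D) (_ : Algebra B D) (_ : Algebra A D) (_ : IsScalarTower A B D),
      Module.FaithfullyFlat B D ∧ EtPBC.IsIndEtale B D ∧ EtPBC.IsIndEtale A D := by
  obtain ⟨C, D, _, _, _, _, _, _, _, _, hffC, hC, hffD, hD, hwC, hwD, hmap, hcl, -, -, hsh⟩ :=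
    Groth.Agent.S0692.result A B (algebraicResidueExtensions_of_weaklyEtale A B)
  haveI := weaklyEtale hC
  haveI := weaklyEtale hD
  haveI : Algebra.WeaklyEtale A D := Algebra.WeaklyEtale.trans A B D
  haveI : Algebra.WeaklyEtale C D := Groth.Agent.S7127.result A C D
  refine ⟨D, inferInstance, inferInstance, inferInstance, inferInstance, hffD, hD, ?_⟩
  refine isIndEtale_trans hC (isIndEtale_of_isIndZariski
    (Groth.Agent.S0700.result C D (identifiesLocalRings_of_maximal fun n hn => ?_) hwC hwD hmap))
  haveI : (n.comap (algebraMap C D)).IsMaximal :=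
    WLocal.mem_closedPoints.1 (hmap.2 ⟨n, hn.isPrime⟩ (WLocal.mem_closedPoints.2 hn))
  exact WLocal.bijective_local_of_weaklyEtale n (hsh _)

end GrothLib.IndEt
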