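import Groth.Agent.Lib.Hensel.HullExtra
import Groth.Agent.Lib.Hensel.TensorIntegral
import Groth.Agent.Lib.Olivier.Main
import Groth.Agent.Lib.IndEt.Retract
import Groth.Agent.Lib.IndEt.Comp
import Groth.Agent.Lib.WLocal.Bijective
import Groth.Agent.Lib.WLocal.Contractible
import Groth.Agent.Lib.IndEt.WeaklyEtaleCover
import Groth.Agent.S7127
import Mathlib.LinearAlgebra.TensorProduct.RightExactness

/-!
# Weakly étale algebras along integral universally injective maps come from hulls

For `A → B` integral and universally injective and a `B`-algebra `C`, weakly étale, w-local with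
strictly henselian local rings at the maximal ideals, `B ⊗[A] Hull A C → C` is bijective.
-/

set_option autoImplicit false
set_option linter.style.haveILetI false

universe u

open TensorProduct IsLocalRing

noncomputable section

namespace GrothLib.HullTensor

open GrothLib.Hensel

variable {A : Type u} [CommRing A]

section Map

variable {C C' : Type u} [CommRing C] [Algebra A C] [CommRing C'] [Algebra A C']

theorem of_comp' {A₁ A₂ : Type u} [CommRing A₁] [Algebra A A₁] [Algebra.Etale A A₁] [CommRing A₂]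
    [Algebra A A₂] [Algebra.Etale A A₂] (φ₁ : A₁ →ₐ[A] C) (φ₂ : A₂ →ₐ[A] C) (f : A₁ →ₐ[A] A₂)
    (hf : φ₂.comp f = φ₁) : (Hull.of φ₂).comp f = Hull.of φ₁ := by
  let e := Nbhd.ofEtaleEquiv A₁ φ₁
  have h := Hull.of_comp (N := Nbhd.ofEtale A₁ φ₁) φ₂ (f.comp e.symm.toAlgHom) (by
    rw [← AlgHom.comp_assoc, hf]
    ext x
    have := AlgHom.congr_fun (Nbhd.ofEtale_pt A₁ φ₁) (e.symm x)
    simpa [e] using this.symm)
  ext x
  have := AlgHom.congr_fun h (e x)
  simpa [Hull.of, e] using this

/-- Functoriality of the hull in the point algebra. -/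
def map (g : C →ₐ[A] C') : Hull A C →ₐ[A] Hull A C' :=
  Hull.desc (fun N => Hull.of (g.comp N.pt))
    fun {N M} f => of_comp' (g.comp N.pt) (g.comp M.pt) f.map (by rw [AlgHom.comp_assoc, f.comp_pt])

theorem map_ι (g : C →ₐ[A] C') (N : Nbhd A C) (x : N.Ring) :
    map g (Hull.ι N x) = Hull.of (g.comp N.pt) x :=
  Hull.desc_ι (fun N => Hull.of (g.comp N.pt))
    (fun {N M} f => of_comp' (g.comp N.pt) (g.comp M.pt) f.map (by rw [AlgHom.comp_assoc, f.comp_pt])) N x

theorem map_of (g : C →ₐ[A] C') {A₁ : Type u} [CommRing A₁] [Algebra A A₁] [Algebra.Etale A A₁]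
    (φ : A₁ →ₐ[A] C) : (map g).comp (Hull.of φ) = Hull.of (g.comp φ) := by
  ext x
  show map g (Hull.ι (Nbhd.ofEtale A₁ φ) (Nbhd.ofEtaleEquiv A₁ φ x)) = _
  rw [map_ι]
  exact AlgHom.congr_fun (of_comp' (g.comp φ) (g.comp (Nbhd.ofEtale A₁ φ).pt)
    (Nbhd.ofEtaleEquiv A₁ φ).toAlgHom (by rw [AlgHom.comp_assoc, Nbhd.ofEtale_pt])) x

theorem proj_map (g : C →ₐ[A] C') (x : Hull A C) : Hull.proj (map g x) = g (Hull.proj x) := by
  obtain ⟨N, a, rfl⟩ := Hull.exists_ι x
  rw [map_ι, Hull.proj_ι]
  exact AlgHom.congr_fun (Hull.proj_comp_of (g.comp N.pt)) a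

end Map

section Idem

variable {C : Type u} [CommRing C] [Algebra A C]

/-- The map from a product given by an idempotent. -/
theorem exists_corner {e : C} (he : IsIdempotentElem e) {D D' : Type u} [CommRing D] [Algebra A D]
    [CommRing D'] [Algebra A D'] (u : D →ₐ[A] C ⧸ Ideal.span {1 - e}) (v : D' →ₐ[A] C) :
    ∃ w : D × D' →ₐ[A] C, (∀ p, Ideal.Quotient.mk (Ideal.span {1 - e}) (w p) = u p.1) ∧
      (∀ p, w p * (1 - e) = v p.2 * (1 - e)) ∧ w (1, 0) = e := by
  choose c hc using fun d => Ideal.Quotient.mk_surjective (u d)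
  have hker : ∀ x y : C, Ideal.Quotient.mk (Ideal.span {1 - e}) x = Ideal.Quotient.mk _ y → e * x = e * y := by
    intro x y h
    rw [Ideal.Quotient.mk_eq_mk_iff_sub_mem, Ideal.mem_span_singleton] at h
    obtain ⟨t, ht⟩ := h
    linear_combination e * ht - t * he.eq
  refine ⟨AlgHom.mk' ⟨⟨⟨fun p => e * c p.1 + (1 - e) * v p.2, ?_⟩, fun p q => ?_⟩, ?_, fun p q => ?_⟩
    fun a p => ?_, fun p => ?_, fun p => ?_, ?_⟩
  · rw [Prod.fst_one, Prod.snd_one, map_one]
    linear_combination hker (c 1) 1 (by rw [hc, map_one, map_one])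
  · show e * c (p.1 * q.1) + (1 - e) * v (p.2 * q.2) = (e * c p.1 + (1 - e) * v p.2) * (e * c q.1 + (1 - e) * v q.2)
    rw [map_mul]
    linear_combination hker (c (p.1 * q.1)) (c p.1 * c q.1) (by rw [hc, map_mul, map_mul, hc, hc]) -
      (c p.1 - v p.2) * (c q.1 - v q.2) * he.eq
  · show e * c (0 : D) + (1 - e) * v 0 = 0
    rw [map_zero]
    linear_combination hker (c 0) 0 (by rw [hc, map_zero, map_zero])
  · show e * c (p.1 + q.1) + (1 - e) * v (p.2 + q.2) = e * c p.1 + (1 - e) * v p.2 + (e * c q.1 + (1 - e) * v q.2)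
    rw [map_add]
    linear_combination hker (c (p.1 + q.1)) (c p.1 + c q.1) (by rw [hc, map_add, map_add, hc, hc])
  · show e * c (a • p.1) + (1 - e) * v (a • p.2) = a • (e * c p.1 + (1 - e) * v p.2)
    rw [Algebra.smul_def a p.1, Algebra.smul_def a p.2, map_mul, AlgHom.commutes, Algebra.smul_def]
    linear_combination hker (c (algebraMap A D a * p.1)) (algebraMap A C a * c p.1)
      (by rw [hc, map_mul, map_mul, hc, AlgHom.commutes]; rfl)
  · show Ideal.Quotient.mk _ (e * c p.1 + (1 - e) * v p.2) = _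
    rw [← hc p.1, Ideal.Quotient.mk_eq_mk_iff_sub_mem, Ideal.mem_span_singleton]
    exact ⟨v p.2 - c p.1, by ring⟩
  · show (e * c p.1 + (1 - e) * v p.2) * (1 - e) = _
    linear_combination (v p.2 - c p.1) * he.eq
  · show e * c 1 + (1 - e) * v 0 = e
    rw [map_zero]
    linear_combination hker (c 1) 1 (by rw [hc, map_one, map_one])

variable {C' : Type u} [CommRing C'] [Algebra A C'] (g : C →ₐ[A] C')
  (hker : ∀ c, g c = 0 → ∃ e, IsIdempotentElem e ∧ g e = 1 ∧ e * c = 0)

include hker

theorem exists_idem_eq {σ : Type} [Finite σ] (x y : σ → C) (h : ∀ i, g (x i) = g (y i)) :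
    ∃ e, IsIdempotentElem e ∧ g e = 1 ∧ ∀ i, e * x i = e * y i := by
  choose e he hge hex using fun i => hker (x i - y i) (by rw [map_sub, h, sub_self])
  haveI := Fintype.ofFinite σ
  classical
  refine ⟨∏ i, e i, ?_, by simp [hge], fun i => ?_⟩
  · show (∏ i, e i) * (∏ i, e i) = _
    rw [← Finset.prod_mul_distrib]
    exact Finset.prod_congr rfl fun i _ => he i
  · rw [← Finset.mul_prod_erase Finset.univ e (Finset.mem_univ i)]
    linear_combination (∏ j ∈ Finset.univ.erase i, e j) * hex i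

/-- Points of finitely presented algebras in an idempotent quotient lift to a neighbourhood. -/
theorem exists_lift_idem (hg : Function.Surjective g) (D : Type u) [CommRing D] [Algebra A D]
    [Algebra.FinitePresentation A D] (h : D →ₐ[A] C') :
    ∃ (e : C) (_ : IsIdempotentElem e) (_ : g e = 1) (u : D →ₐ[A] C ⧸ Ideal.span {1 - e}),
      ∀ d, ∀ c, Ideal.Quotient.mk (Ideal.span {1 - e}) c = u d → g c = h d := by
  obtain ⟨n, f, hf, hfg⟩ := (inferInstance : Algebra.FinitePresentation A D).out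
  choose c hc using fun i => hg (h (f (MvPolynomial.X i)))
  let F : MvPolynomial (Fin n) A →ₐ[A] C := MvPolynomial.aeval c
  have hgF : g.comp F = h.comp f := MvPolynomial.algHom_ext fun i => by simp [F, hc]
  obtain ⟨m, r, hr⟩ := Submodule.fg_iff_exists_fin_generating_family.1 hfg
  obtain ⟨e, he, hge, her⟩ := exists_idem_eq g hker (fun j : Fin m => F (r j)) (fun _ => 0) fun j => by
    have hrj : f (r j) = 0 := RingHom.mem_ker.1 (hr ▸ Submodule.subset_span ⟨j, rfl⟩)
    have := AlgHom.congr_fun hgF (r j)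
    simp only [AlgHom.comp_apply] at this
    rw [this, hrj, map_zero, map_zero]
  let q : MvPolynomial (Fin n) A →ₐ[A] C ⧸ Ideal.span {1 - e} := (Ideal.Quotient.mkₐ A _).comp F
  have hle : RingHom.ker f.toRingHom ≤ RingHom.ker q.toRingHom := by
    refine hr ▸ Submodule.span_le.2 ?_
    rintro _ ⟨j, rfl⟩
    show Ideal.Quotient.mk _ (F (r j)) = 0
    rw [Ideal.Quotient.eq_zero_iff_mem, Ideal.mem_span_singleton]
    exact ⟨F (r j), by linear_combination her j⟩
  refine ⟨e, he, hge, AlgHom.liftOfSurjective f hf q hle, fun d c hd => ?_⟩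
  obtain ⟨p, rfl⟩ := hf d
  rw [AlgHom.liftOfSurjective_apply] at hd
  change Ideal.Quotient.mk _ c = Ideal.Quotient.mk _ (F p) at hd
  rw [Ideal.Quotient.mk_eq_mk_iff_sub_mem, Ideal.mem_span_singleton] at hd
  obtain ⟨t, ht⟩ := hd
  have : g (c - F p) = 0 := by rw [ht, map_mul, map_sub, map_one, hge, sub_self, zero_mul]
  rw [map_sub, sub_eq_zero] at this
  exact this.trans (AlgHom.congr_fun hgF p)

theorem map_surjective (hg : Function.Surjective g) : Function.Surjective (map g) := by
  intro z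
  obtain ⟨N, a, rfl⟩ := Hull.exists_ι z
  obtain ⟨e, he, hge, u, hu⟩ := exists_lift_idem g hker hg N.Ring N.pt
  obtain ⟨w, hw1, -, -⟩ := exists_corner he u (Algebra.ofId A C)
  haveI : Algebra.Etale A (N.Ring × A) := IndEt.etale_prod' N.Ring A
  refine ⟨Hull.of w (a, 0), ?_⟩
  have hcomp : g.comp w = N.pt.comp (AlgHom.fst A N.Ring A) :=
    AlgHom.ext fun p => hu p.1 (w p) (hw1 p)
  refine (AlgHom.congr_fun (map_of g w) (a, 0)).trans ?_
  rw [← Hull.of_comp (N := N) N.pt (AlgHom.id A _) (AlgHom.comp_id _)]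
  show Hull.of (g.comp w) (a, 0) = Hull.of N.pt a
  exact (AlgHom.congr_fun (of_comp' (g.comp w) N.pt (AlgHom.fst A N.Ring A) hcomp.symm) (a, 0)).symm

theorem map_eq_zero (hg : Function.Surjective g) {z : Hull A C} (hz : map g z = 0) :
    ∃ ε : Hull A C, IsIdempotentElem ε ∧ g (Hull.proj ε) = 1 ∧ ε * z = 0 := by
  obtain ⟨N, a, rfl⟩ := Hull.exists_ι z
  rw [map_ι] at hz
  obtain ⟨M, f, hf⟩ := Hull.exists_map_eq_zero (a := Nbhd.ofEtaleEquiv _ (g.comp N.pt) a) hz
  let f' : N.Ring →ₐ[A] M.Ring := f.map.comp (Nbhd.ofEtaleEquiv _ (g.comp N.pt)).toAlgHom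
  have hf' : M.pt.comp f' = g.comp N.pt := by
    rw [← AlgHom.comp_assoc, f.comp_pt, Nbhd.ofEtale_pt]
  obtain ⟨e₁, he₁, hge₁, u, hu⟩ := exists_lift_idem g hker hg M.Ring M.pt
  obtain ⟨n, q, hq, -⟩ := (inferInstance : Algebra.FinitePresentation A N.Ring).out
  choose c hc using fun i => Ideal.Quotient.mk_surjective (u (f' (q (MvPolynomial.X i))))
  obtain ⟨e₂, he₂, hge₂, hec⟩ := exists_idem_eq g hker c (fun i => N.pt (q (MvPolynomial.X i))) fun i =>
    (hu _ _ (hc i)).trans (AlgHom.congr_fun hf' _)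
  let u' : M.Ring →ₐ[A] C ⧸ Ideal.span {1 - e₁ * e₂} :=
    (Ideal.Quotient.factorₐ A (Ideal.span_le.2 (Set.singleton_subset_iff.2
      (Ideal.mem_span_singleton.2 ⟨1 - e₁, by linear_combination (-e₂) * he₁.eq⟩)))).comp u
  have he : IsIdempotentElem (e₁ * e₂) := he₁.mul he₂
  obtain ⟨w, hw1, hw2, hw3⟩ := exists_corner he u' N.pt
  haveI : Algebra.Etale A (M.Ring × N.Ring) := IndEt.etale_prod' M.Ring N.Ring
  let φ : N.Ring →ₐ[A] M.Ring × N.Ring := AlgHom.prod f' (AlgHom.id A _)
  have hφ : w.comp φ = N.pt := by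
    rw [← AlgHom.cancel_right hq]
    refine MvPolynomial.algHom_ext fun i => ?_
    show w (f' (q (MvPolynomial.X i)), q (MvPolynomial.X i)) = N.pt (q (MvPolynomial.X i))
    set p : M.Ring × N.Ring := (f' (q (MvPolynomial.X i)), q (MvPolynomial.X i))
    have h1 : Ideal.Quotient.mk (Ideal.span {1 - e₁ * e₂}) (w p) = Ideal.Quotient.mk _ (c i) := by
      rw [hw1]
      simp only [u', p, AlgHom.comp_apply]
      rw [← hc i, Ideal.Quotient.factorₐ_apply_mk]
    rw [Ideal.Quotient.mk_eq_mk_iff_sub_mem, Ideal.mem_span_singleton] at h1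
    obtain ⟨t, ht⟩ := h1
    have h2 := hw2 p
    linear_combination e₁ * hec i + h2 + (e₁ * e₂) * ht - t * he.eq
  refine ⟨Hull.of w (1, 0), ?_, ?_, ?_⟩
  · show Hull.of w (1, 0) * Hull.of w (1, 0) = _
    rw [← map_mul]
    simp
  · rw [← AlgHom.comp_apply Hull.proj, Hull.proj_comp_of, hw3, map_mul, hge₁, hge₂, mul_one]
  · rw [← Hull.of_comp w φ hφ, AlgHom.comp_apply, ← map_mul]
    have : f' a = 0 := hf
    simp [φ, this, Prod.mk_zero_zero]

end Idem

section Local

variable {L : Type u} [CommRing L] [Algebra A L]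

open Polynomial in
/-- Simple roots in the point algebra lift to the hull. -/
theorem exists_root_lift (f : (Hull A L)[X]) (hf : f.Monic) (β : L)
    (h₁ : (f.map (Hull.proj (A := A) (C := L)).toRingHom).eval β = 0)
    (h₂ : IsUnit ((f.map (Hull.proj (A := A) (C := L)).toRingHom).derivative.eval β)) :
    ∃ r : Hull A L, f.eval r = 0 ∧ Hull.proj r = β := by
  classical
  set d := f.natDegree
  rcases subsingleton_or_nontrivial (Hull A L) with hs | hs
  · haveI : Subsingleton L := by
      refine subsingleton_of_zero_eq_one ?_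
      rw [← map_zero (Hull.proj (A := A) (C := L)), ← map_one (Hull.proj (A := A) (C := L)),
        Subsingleton.elim (0 : Hull A L) 1]
    exact ⟨0, Subsingleton.elim _ _, Subsingleton.elim _ _⟩
  obtain ⟨N, a, ha⟩ := Hull.exists_ι_family (fun i : Fin d ↦ f.coeff i)
  let p : N.Ring[X] := X ^ d + ∑ i : Fin d, C (a i) * X ^ (i : ℕ)
  have hp : p.map (Hull.ι N).toRingHom = f := by
    conv_rhs => rw [hf.as_sum]
    rw [← Fin.sum_univ_eq_sum_range (fun i ↦ C (f.coeff i) * X ^ i)]
    simp [p, Polynomial.map_sum, ha, d]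
  haveI : Nontrivial N.Ring := (Hull.ι N).toRingHom.domain_nontrivial
  have hpm : p.Monic := monic_X_pow_add ((degree_sum_le _ _).trans_lt ((Finset.sup_lt_iff
      (WithBot.bot_lt_coe d)).mpr fun i _ ↦ (degree_C_mul_X_pow_le _ _).trans_lt
      (Nat.cast_lt.mpr i.isLt)))
  let P : StandardEtalePair N.Ring := ⟨p, hpm, p.derivative, ⟨1, 0, 1, by simp⟩⟩
  letI : Algebra N.Ring L := N.pt.toRingHom.toAlgebra
  haveI : IsScalarTower A N.Ring L :=
    IsScalarTower.of_algebraMap_eq (R := A) (S := N.Ring) (A := L) fun r ↦ (N.pt.commutes r).symm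
  have hpL : p.map (algebraMap N.Ring L) = f.map (Hull.proj (A := A) (C := L)).toRingHom := by
    rw [← hp, Polynomial.map_map]
    exact congrArg (fun φ : N.Ring →ₐ[A] L => p.map φ.toRingHom) (Hull.proj_comp_ι N).symm
  have hβ : P.HasMap β := by
    constructor
    · show aeval β p = 0
      rw [← aeval_map_algebraMap L, hpL, coe_aeval_eq_eval, h₁]
    · show IsUnit (aeval β p.derivative)
      rw [← aeval_map_algebraMap L, coe_aeval_eq_eval, ← derivative_map, hpL]
      exact h₂
  letI : Algebra A P.Ring := ((algebraMap N.Ring P.Ring).comp (algebraMap A N.Ring)).toAlgebra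
  haveI : IsScalarTower A N.Ring P.Ring := IsScalarTower.of_algebraMap_eq (R := A) (S := N.Ring) (A := P.Ring) fun _ => rfl
  haveI : Algebra.Etale A P.Ring := Algebra.Etale.comp A N.Ring _
  let φ : P.Ring →ₐ[A] L := (P.lift β hβ).restrictScalars A
  refine ⟨Hull.of φ P.X, ?_, ?_⟩
  · letI : Algebra N.Ring (Hull A L) := (Hull.ι N).toRingHom.toAlgebra
    let Φ : P.Ring →ₐ[N.Ring] Hull A L :=
      { (Hull.of φ).toRingHom with
        commutes' := fun x => AlgHom.congr_fun (Hull.of_comp φ (IsScalarTower.toAlgHom A N.Ring P.Ring)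
          (AlgHom.ext fun y => (P.lift β hβ).commutes y)) x }
    have h0 : aeval (Φ P.X) p = 0 := (StandardEtalePair.hasMap_X.map Φ).1
    rw [← hp, eval_map]
    exact h0
  · rw [← AlgHom.comp_apply Hull.proj, Hull.proj_comp_of]
    exact P.lift_X β hβ

variable [IsLocalRing L]

/-- The hull in a local ring is local. -/
theorem isLocalRing_hull : IsLocalRing (Hull A L) := by
  haveI : Nontrivial (Hull A L) := (Hull.proj (A := A) (C := L)).toRingHom.domain_nontrivial
  refine IsLocalRing.of_isUnit_or_isUnit_one_sub_self fun x => ?_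
  rcases IsLocalRing.isUnit_or_isUnit_one_sub_self (Hull.proj x) with h | h
  · exact Or.inl (Hull.isUnit_of_isUnit_proj h)
  · exact Or.inr (Hull.isUnit_of_isUnit_proj (by rwa [map_sub, map_one]))

omit [IsLocalRing L] in
theorem isLocalHom_proj : IsLocalHom (Hull.proj (A := A) (C := L)).toRingHom :=
  ⟨fun _ h => Hull.isUnit_of_isUnit_proj h⟩

open Polynomial in
/-- The hull in a strictly henselian local ring is strictly henselian. -/
theorem strictlyHenselian_hull (hL : EtCoh.IsStrictlyHenselianLocalRing L) :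
    EtCoh.IsStrictlyHenselianLocalRing (Hull A L) := by
  obtain ⟨hhens, hsep⟩ := hL
  haveI := hhens
  haveI := isLocalRing_hull (A := A) (L := L)
  let π := (Hull.proj (A := A) (C := L)).toRingHom
  haveI : IsLocalHom π := isLocalHom_proj
  have key : ∀ (f : (Hull A L)[X]), f.Monic → ∀ b₀ : L, (f.map π).eval b₀ ∈ maximalIdeal L →
      IsUnit ((f.map π).derivative.eval b₀) →
      ∃ r : Hull A L, f.IsRoot r ∧ π r - b₀ ∈ maximalIdeal L := fun f hf b₀ h1 h2 => by
    obtain ⟨β, hβ, hβ'⟩ := HenselianLocalRing.is_henselian (f.map π) (hf.map π) b₀ h1 h2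
    have h3 : IsUnit ((f.map π).derivative.eval β) := by
      by_contra h
      obtain ⟨t, ht⟩ := Polynomial.sub_dvd_eval_sub β b₀ (f.map π).derivative
      refine (mem_nonunits_iff.1 ?_) h2
      rw [← mem_maximalIdeal, show (f.map π).derivative.eval b₀ =
        (f.map π).derivative.eval β - (β - b₀) * t by linear_combination -ht]
      exact sub_mem h (Ideal.mul_mem_right _ _ hβ')
    obtain ⟨r, hr, hrβ⟩ := exists_root_lift f hf β hβ h3
    refine ⟨r, hr, ?_⟩
    show Hull.proj r - b₀ ∈ _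
    rw [hrβ]; exact hβ'
  refine ⟨{ is_henselian := fun f hf a₀ h1 h2 => ?_ }, IsSepClosed.of_exists_root _ fun p hp hirr hsp => ?_⟩
  · obtain ⟨r, hr, hr'⟩ := key f hf (π a₀) (by
      rw [eval_map, eval₂_at_apply]
      exact map_nonunit π _ h1) (by
      rw [derivative_map, eval_map, eval₂_at_apply]
      exact h2.map π)
    refine ⟨r, hr, fun h => hr' ?_⟩
    rw [← map_sub]
    exact h.map π
  · obtain ⟨f, hfp, -, hfm⟩ := lifts_and_natDegree_eq_and_monic
      ((lifts_iff_coeff_lifts _).2 fun n => residue_surjective (p.coeff n)) hp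
    let ρ := ResidueField.map π
    haveI := hsep
    obtain ⟨x, hx⟩ := IsSepClosed.exists_eval₂_eq_zero ρ p (degree_pos_of_irreducible hirr).ne' hsp
    obtain ⟨b₀, rfl⟩ := residue_surjective x
    have hres : ∀ q : (Hull A L)[X], residue L ((q.map π).eval b₀) =
        (q.map (residue _)).eval₂ ρ (residue L b₀) := fun q => by
      rw [eval_map, eval₂_map, hom_eval₂]
      rfl
    obtain ⟨r, hr, hr'⟩ := key f hfm b₀ (by
      rw [← residue_eq_zero_iff, hres, hfp, hx]) (by
      rw [← residue_ne_zero_iff_isUnit, derivative_map, hres, ← derivative_map, hfp]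
      intro h0
      obtain ⟨a, b, hab⟩ := hsp
      have := congrArg (eval₂ ρ (residue L b₀)) hab
      simp [hx, h0] at this)
    refine ⟨residue _ r, ?_⟩
    rw [← hfp, eval_map, eval₂_at_apply, show f.eval r = 0 from hr, map_zero]

end Local

section Tensor

variable (B : Type u) [CommRing B] [Algebra A B]

/-- The hypothesis "universally injective". -/
abbrev UI (A : Type u) [CommRing A] (B : Type u) [CommRing B] [Algebra A B] : Prop :=
  ∀ (H : Type u) [CommRing H] [Algebra A H], Function.Injective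
    (PrimeSpectrum.comap (Algebra.TensorProduct.includeRight : H →ₐ[A] B ⊗[A] H).toRingHom)

variable (C : Type u) [CommRing C] [Algebra A C] [Algebra B C] [IsScalarTower A B C]

/-- The comparison map. -/
def psi : B ⊗[A] Hull A C →ₐ[B] C :=
  Algebra.TensorProduct.lift (Algebra.ofId B C) (Hull.proj (A := A) (C := C)) fun _ _ => Commute.all _ _

theorem psi_tmul (b : B) (t : Hull A C) : psi B C (b ⊗ₜ[A] t) = algebraMap B C b * Hull.proj t := by
  simp [psi, Algebra.ofId_apply]

variable {C}

theorem weaklyEtale_psi [Algebra.WeaklyEtale B C] :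
    letI := (psi (A := A) B C).toRingHom.toAlgebra
    Algebra.WeaklyEtale (B ⊗[A] Hull A C) C := by
  letI := (psi (A := A) B C).toRingHom.toAlgebra
  haveI : IsScalarTower B (B ⊗[A] Hull A C) C :=
    IsScalarTower.of_algebraMap_eq fun b => ((psi (A := A) B C).commutes b).symm
  haveI : Algebra.WeaklyEtale B (B ⊗[A] Hull A C) :=
    IndEt.weaklyEtale (IndEt.isIndEtale_baseChange (Hull.isIndEtale A C))
  exact Groth.Agent.S7127.result B (B ⊗[A] Hull A C) C

attribute [local instance] Algebra.TensorProduct.rightAlgebra in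
/-- The local case. -/
theorem bijective_psi_local {L : Type u} [CommRing L] [IsLocalRing L] [Algebra A L] [Algebra B L]
    [IsScalarTower A B L] [Algebra.IsIntegral A B] (hui : UI A B) [Algebra.WeaklyEtale B L]
    (hL : EtCoh.IsStrictlyHenselianLocalRing L) : Function.Bijective (psi (A := A) B L) := by
  haveI := isLocalRing_hull (A := A) (L := L)
  obtain ⟨hH, hHs⟩ := strictlyHenselian_hull (A := A) hL
  haveI := hH
  haveI := hHs
  let H := Hull A L
  let R := B ⊗[A] H
  haveI : Algebra.IsIntegral H R := ⟨fun x => by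
    induction x using TensorProduct.induction_on with
    | zero => exact isIntegral_zero
    | tmul b h =>
      rw [show b ⊗ₜ[A] h = (b ⊗ₜ[A] (1 : H)) * ((1 : B) ⊗ₜ[A] h) by simp]
      refine IsIntegral.mul ?_ (isIntegral_algebraMap (x := h))
      exact ((Algebra.IsIntegral.isIntegral (R := A) b).map
        (Algebra.TensorProduct.includeLeft (S := A) : B →ₐ[A] R)).tower_top
    | add x y hx hy => exact hx.add hy⟩
  let ψ := psi (A := A) B L
  haveI : Nontrivial R := ψ.toRingHom.domain_nontrivial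
  have huniq : ∀ M M' : Ideal R, M.IsMaximal → M'.IsMaximal → M = M' := fun M M' hM hM' => by
    haveI := hM
    haveI := hM'
    have h1 : M.comap (algebraMap H R) = maximalIdeal H := eq_maximalIdeal
      (Ideal.isMaximal_comap_of_isIntegral_of_isMaximal M)
    have h2 : M'.comap (algebraMap H R) = maximalIdeal H := eq_maximalIdeal
      (Ideal.isMaximal_comap_of_isIntegral_of_isMaximal M')
    exact congrArg PrimeSpectrum.asIdeal (hui H (a₁ := ⟨M, hM.isPrime⟩) (a₂ := ⟨M', hM'.isPrime⟩)
      (PrimeSpectrum.ext (h1.trans h2.symm)))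
  obtain ⟨M₀, hM₀⟩ := Ideal.exists_maximal R
  haveI : IsLocalRing R := IsLocalRing.of_unique_max_ideal ⟨M₀, hM₀, fun M hM => huniq M M₀ hM hM₀⟩
  haveI : IsLocalHom (algebraMap H R) := ⟨fun x hx => Hull.isUnit_of_isUnit_proj (by
    have := hx.map ψ
    rwa [show algebraMap H R x = (1 : B) ⊗ₜ[A] x from rfl, psi_tmul, map_one, one_mul] at this)⟩
  haveI : HenselianLocalRing R := Hensel.henselianLocalRing_of_isIntegral_isLocalHom (R := H)
  haveI : IsSepClosed (ResidueField R) := by
    haveI : Algebra.IsAlgebraic (ResidueField H) (ResidueField R) := ⟨fun x => by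
      obtain ⟨y, rfl⟩ := residue_surjective x
      exact (((Algebra.IsIntegral.isIntegral (R := H) y).map
        (IsScalarTower.toAlgHom H R (ResidueField R))).tower_top).isAlgebraic⟩
    haveI : IsPurelyInseparable (ResidueField H) (ResidueField R) := inferInstance
    exact Algebra.IsAlgebraic.isSepClosed (F := ResidueField H) (E := ResidueField R)
  letI : Algebra R L := ψ.toRingHom.toAlgebra
  haveI : Algebra.WeaklyEtale R L := weaklyEtale_psi B
  haveI : IsLocalHom (algebraMap R L) := ⟨fun x hx => by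
    by_contra hu
    have hxm : x ∈ maximalIdeal R := hu
    obtain ⟨n, hn⟩ : ∃ n, x ^ n ∈ (maximalIdeal H).map (algebraMap H R) := by
      have : (maximalIdeal R) ≤ ((maximalIdeal H).map (algebraMap H R)).radical := by
        rw [Ideal.radical_eq_sInf]
        refine le_sInf fun P ⟨hP, hPp⟩ => ?_
        haveI := hPp
        haveI : P.IsMaximal := Ideal.isMaximal_of_isIntegral_of_isMaximal_comap P (by
          rw [(maximalIdeal.isMaximal H).eq_of_le (Ideal.comap_ne_top _ hPp.ne_top)
            (Ideal.map_le_iff_le_comap.1 hP) |>.symm]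
          exact maximalIdeal.isMaximal H)
        exact (eq_maximalIdeal ‹P.IsMaximal›).ge
      exact this hxm
    have : (maximalIdeal H).map (algebraMap H R) ≤ (maximalIdeal L).comap (algebraMap R L) := by
      rw [Ideal.map_le_iff_le_comap]
      intro t ht hu'
      refine ht (Hull.isUnit_of_isUnit_proj ?_)
      have e : algebraMap R L (algebraMap H R t) = Hull.proj t := by
        show ψ ((1 : B) ⊗ₜ[A] t) = _
        rw [psi_tmul, map_one, one_mul]
      exact e ▸ hu'
    have h2 := this hn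
    rw [Ideal.mem_comap, map_pow, mem_maximalIdeal] at h2
    exact h2 (hx.pow n)⟩
  exact Olivier.bijective R L

theorem exists_idem_of_notMem {C : Type u} [CommRing C] (hC : ProEtW.IsWLocal (PrimeSpectrum C))
    (m : Ideal C) [hm : m.IsMaximal] {s : C} (hs : s ∉ m) :
    ∃ e y : C, IsIdempotentElem e ∧ e ∉ m ∧ e = y * s := by
  obtain ⟨e, he, hiff⟩ := WLocal.exists_idempotent hC (WLocal.isClosed_closedPoints_inter_basicOpen hC s)
    (hC.2.1.inter (PrimeSpectrum.isClosed_zeroLocus {s}))
    (by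
      ext p
      constructor
      · rintro (⟨h1, -⟩ | ⟨h1, -⟩) <;> exact h1
      · intro hp
        by_cases hap : s ∈ p.asIdeal
        · exact Or.inr ⟨hp, by simpa [PrimeSpectrum.mem_zeroLocus] using hap⟩
        · exact Or.inl ⟨hp, hap⟩)
    (Set.disjoint_left.2 fun p h1 h2 => h1.2 (by simpa [PrimeSpectrum.mem_zeroLocus] using h2.2))
  have hem : e ∉ m :=
    (hiff ⟨m, hm.isPrime⟩ (WLocal.mem_closedPoints.2 hm)).2 ⟨WLocal.mem_closedPoints.2 hm, hs⟩
  have hrad : e ∈ (Ideal.span {s}).radical := by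
    rw [Ideal.radical_eq_sInf]
    refine Submodule.mem_sInf.2 fun P ⟨hP, hPp⟩ => by_contra fun heP => ?_
    obtain ⟨n, hn, hPn⟩ := Ideal.exists_le_maximal P hPp.ne_top
    have hsn : s ∈ n := hPn (hP (Ideal.mem_span_singleton_self s))
    have hen : e ∉ n := fun h => by
      have h1 : (1 - e) ∈ P := (hPp.mem_or_mem (show e * (1 - e) ∈ P by
        rw [mul_sub, mul_one, he.eq, sub_self]; exact P.zero_mem)).resolve_left heP
      exact hn.ne_top ((Ideal.eq_top_iff_one n).2 (by simpa using n.add_mem h (hPn h1)))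
    exact ((hiff ⟨n, hn.isPrime⟩ (WLocal.mem_closedPoints.2 hn)).1 hen).2 hsn
  obtain ⟨k, hk⟩ := hrad
  obtain ⟨y, hy⟩ := Ideal.mem_span_singleton.1 hk
  refine ⟨e, e * y, he, hem, ?_⟩
  rcases Nat.eq_zero_or_pos k with rfl | hk0
  · rw [pow_zero] at hy
    linear_combination e * hy
  · obtain ⟨k, rfl⟩ := Nat.exists_eq_succ_of_ne_zero hk0.ne'
    rw [he.pow_succ_eq] at hy
    linear_combination e * hy - he.eq

/-- For a w-local `C` with strictly henselian local rings at maximal ideals, weakly étale over `B`,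
the algebra `C` is the base change of its hull over `A`. -/
theorem bijective_psi {C : Type u} [CommRing C] [Algebra A C] [Algebra B C] [IsScalarTower A B C]
    [Algebra.IsIntegral A B] (hui : UI A B) [Algebra.WeaklyEtale B C]
    (hC : ProEtW.IsWLocal (PrimeSpectrum C))
    (hsh : ∀ (m : Ideal C) [m.IsMaximal], EtCoh.IsStrictlyHenselianLocalRing (Localization.AtPrime m)) :
    Function.Bijective (psi (A := A) B C) := by
  let ψ := psi (A := A) B C
  have hloc : ∀ (m : Ideal C) [m.IsMaximal],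
      Function.Surjective (IsScalarTower.toAlgHom A C (Localization.AtPrime m)) ∧
      (∀ c, IsScalarTower.toAlgHom A C (Localization.AtPrime m) c = 0 →
        ∃ e, IsIdempotentElem e ∧ IsScalarTower.toAlgHom A C (Localization.AtPrime m) e = 1 ∧ e * c = 0) := by
    intro m hm
    have h1 : ∀ e : C, IsIdempotentElem e → e ∉ m → algebraMap C (Localization.AtPrime m) e = 1 := by
      intro e he hem
      apply (IsLocalization.map_units (Localization.AtPrime m) (⟨e, hem⟩ : m.primeCompl)).mul_left_cancel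
      rw [← map_mul, he.eq, mul_one]
    refine ⟨fun x => ?_, fun c hc => ?_⟩
    · obtain ⟨a, ⟨s, hs⟩, rfl⟩ := IsLocalization.exists_mk'_eq m.primeCompl x
      obtain ⟨e, y, he, hem, hy⟩ := exists_idem_of_notMem hC m hs
      refine ⟨a * y, ?_⟩
      rw [IsScalarTower.toAlgHom_apply, eq_comm, IsLocalization.mk'_eq_iff_eq_mul, ← map_mul,
        mul_assoc, ← hy, map_mul, h1 e he hem, mul_one]
    · obtain ⟨⟨s, hs⟩, hsc⟩ := (IsLocalization.map_eq_zero_iff m.primeCompl _ _).1 hc
      obtain ⟨e, y, he, hem, hy⟩ := exists_idem_of_notMem hC m hs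
      exact ⟨e, he, h1 e he hem, by rw [hy, mul_assoc]; simp [hsc]⟩
  haveI : ∀ (m : Ideal C) [m.IsMaximal], Algebra.WeaklyEtale B (Localization.AtPrime m) := fun m _ =>
    haveI : Algebra.WeaklyEtale C (Localization.AtPrime m) :=
      IndEt.weaklyEtale (IndEt.isIndEtale_of_isLocalization m.primeCompl)
    Algebra.WeaklyEtale.trans B C _
  have hnat : ∀ (m : Ideal C) [m.IsMaximal] (z : B ⊗[A] Hull A C),
      psi B (Localization.AtPrime m) (Algebra.TensorProduct.map (AlgHom.id A B)
        (map (IsScalarTower.toAlgHom A C (Localization.AtPrime m))) z) =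
        algebraMap C (Localization.AtPrime m) (ψ z) := fun m _ z => by
    induction z using TensorProduct.induction_on with
    | zero => simp
    | tmul b t =>
      rw [Algebra.TensorProduct.map_tmul, psi_tmul, psi_tmul, proj_map, map_mul, AlgHom.id_apply,
        ← IsScalarTower.algebraMap_apply B C, IsScalarTower.toAlgHom_apply]
    | add x y hx hy => simp only [map_add, hx, hy]
  -- ideals of the hull containing lifts of idempotents of all maximal ideals are trivial
  have hone : ∀ I : Ideal (Hull A C), (∀ (m : Ideal C) [m.IsMaximal],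
      ∃ ε ∈ I, IsIdempotentElem ε ∧ Hull.proj ε ∉ m) → (1 : Hull A C) ∈ I := fun I hI => by
    let E : Set C := {c | ∃ ε ∈ I, IsIdempotentElem ε ∧ Hull.proj ε = c}
    have hE : Ideal.span E = ⊤ := by
      by_contra h
      obtain ⟨m, hm, hle⟩ := Ideal.exists_le_maximal _ h
      obtain ⟨ε, hε, hi, hnm⟩ := @hI m hm
      exact hnm (hle (Ideal.subset_span ⟨ε, hε, hi, rfl⟩))
    have key : ∀ c ∈ Ideal.span E, ∃ ε ∈ I, IsIdempotentElem ε ∧ Hull.proj ε * c = c := fun c hc => by
      induction hc using Submodule.span_induction with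
      | mem x hx => obtain ⟨ε, hε, hi, rfl⟩ := hx; exact ⟨ε, hε, hi, by rw [← map_mul, hi.eq]⟩
      | zero => exact ⟨0, I.zero_mem, IsIdempotentElem.zero, by simp⟩
      | add x y _ _ hx hy =>
        obtain ⟨ε, hε, hi, hx⟩ := hx
        obtain ⟨δ, hδ, hj, hy⟩ := hy
        refine ⟨ε + δ - ε * δ, I.sub_mem (I.add_mem hε hδ) (I.mul_mem_right _ hε), ?_, ?_⟩
        · show (ε + δ - ε * δ) * (ε + δ - ε * δ) = ε + δ - ε * δ
          linear_combination (1 - δ) * (1 - δ) * hi.eq + (1 - ε) * hj.eq
        · rw [map_sub, map_add, map_mul]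
          linear_combination (1 - Hull.proj δ) * hx + (1 - Hull.proj ε) * hy
      | smul a x _ hx =>
        obtain ⟨ε, hε, hi, hx⟩ := hx
        exact ⟨ε, hε, hi, by rw [smul_eq_mul]; linear_combination a * hx⟩
    obtain ⟨ε, hε, hi, h1⟩ := key 1 (hE ▸ Submodule.mem_top)
    rw [mul_one] at h1
    have hu : IsUnit ε := Hull.isUnit_of_isUnit_proj (h1 ▸ isUnit_one)
    rwa [(IsIdempotentElem.iff_eq_one_of_isUnit hu).1 hi] at hε
  refine ⟨(injective_iff_map_eq_zero _).2 fun z hz => ?_, fun c => ?_⟩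
  · let I : Ideal (Hull A C) := ((⊥ : Ideal (B ⊗[A] Hull A C)).colon {z}).comap
      (Algebra.TensorProduct.includeRight : Hull A C →ₐ[A] B ⊗[A] Hull A C)
    have hI : ∀ t, t ∈ I ↔ (1 : B) ⊗ₜ[A] t * z = 0 := fun t => by
      simp [I, Submodule.mem_colon_singleton, smul_eq_mul]
    have h1 : (1 : Hull A C) ∈ I := hone I fun m hm => by
      obtain ⟨hgs, hgk⟩ := hloc m
      set g := IsScalarTower.toAlgHom A C (Localization.AtPrime m)
      have hz' : z ∈ RingHom.ker (Algebra.TensorProduct.map (AlgHom.id A B) (map g)) :=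
        RingHom.mem_ker.2 ((bijective_psi_local B hui (hsh m)).1 (by
          rw [hnat, show ψ z = 0 from hz, map_zero, map_zero]))
      rw [Algebra.TensorProduct.lTensor_ker _ (map_surjective g hgk hgs)] at hz'
      change z ∈ Ideal.span (_ '' _) at hz'
      have key : ∀ w ∈ Ideal.span ((Algebra.TensorProduct.includeRight : Hull A C →ₐ[A] B ⊗[A] Hull A C) ''
          (RingHom.ker (map g) : Set (Hull A C))), ∃ ε : Hull A C,
          IsIdempotentElem ε ∧ g (Hull.proj ε) = 1 ∧ (1 : B) ⊗ₜ[A] ε * w = 0 := fun w hw => by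
        induction hw using Submodule.span_induction with
        | mem x hx =>
          obtain ⟨t, ht, rfl⟩ := hx
          obtain ⟨ε, hi, h1, h0⟩ := map_eq_zero g hgk hgs (RingHom.mem_ker.1 ht)
          exact ⟨ε, hi, h1, by simp [h0]⟩
        | zero => exact ⟨1, IsIdempotentElem.one, by simp, by simp⟩
        | add x y _ _ hx hy =>
          obtain ⟨ε, hi, hε, hx⟩ := hx
          obtain ⟨δ, hj, hδ, hy⟩ := hy
          refine ⟨ε * δ, hi.mul hj, by rw [map_mul, map_mul, hε, hδ, one_mul], ?_⟩
          rw [← one_mul (1 : B), ← Algebra.TensorProduct.tmul_mul_tmul]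
          linear_combination (1 : B) ⊗ₜ[A] δ * hx + (1 : B) ⊗ₜ[A] ε * hy
        | smul a x _ hx =>
          obtain ⟨ε, hi, hε, hx⟩ := hx
          exact ⟨ε, hi, hε, by rw [smul_eq_mul]; linear_combination a * hx⟩
      obtain ⟨ε, hi, hε, h0⟩ := key z hz'
      refine ⟨ε, (hI ε).2 h0, hi, fun hmem => ?_⟩
      exact (IsLocalization.AtPrime.isUnit_to_map_iff (Localization.AtPrime m) m _).1
        (show IsUnit (g (Hull.proj ε)) by rw [hε]; exact isUnit_one) hmem
    have := (hI 1).1 h1
    rwa [← Algebra.TensorProduct.one_def, one_mul] at this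
  · let I : Ideal (Hull A C) :=
      { carrier := {t | ∃ w, ψ w = Hull.proj t * c}
        zero_mem' := ⟨0, by simp⟩
        add_mem' := fun {s t} ⟨v, hv⟩ ⟨w, hw⟩ => ⟨v + w, by rw [map_add, hv, hw, map_add, add_mul]⟩
        smul_mem' := fun s t ⟨w, hw⟩ => ⟨(1 : B) ⊗ₜ[A] s * w, by
          rw [map_mul, hw, psi_tmul, map_one, one_mul, smul_eq_mul, map_mul, mul_assoc]⟩ }
    obtain ⟨w, hw⟩ : (1 : Hull A C) ∈ I := hone I fun m hm => by
      obtain ⟨hgs, hgk⟩ := hloc m
      set g := IsScalarTower.toAlgHom A C (Localization.AtPrime m)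
      obtain ⟨v, hv⟩ := (bijective_psi_local (L := Localization.AtPrime m) B hui (hsh m)).2 (g c)
      obtain ⟨w, rfl⟩ := Algebra.TensorProduct.map_surjective (AlgHom.id A B) (map g)
        Function.surjective_id (map_surjective g hgk hgs) v
      rw [hnat] at hv
      obtain ⟨e, he, hge, hew⟩ := hgk (ψ w - c) (by
        rw [map_sub, IsScalarTower.toAlgHom_apply, hv, IsScalarTower.toAlgHom_apply, sub_self])
      haveI : Algebra.Etale A (A × A) := IndEt.etale_prod' A A
      obtain ⟨φ, -, -, hφ⟩ := exists_corner he (Algebra.ofId A (C ⧸ Ideal.span {1 - e})) (Algebra.ofId A C)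
      have hpe : Hull.proj (Hull.of φ (1, 0)) = e := by
        rw [← AlgHom.comp_apply Hull.proj, Hull.proj_comp_of, hφ]
      refine ⟨Hull.of φ (1, 0), ⟨(1 : B) ⊗ₜ[A] Hull.of φ (1, 0) * w, ?_⟩, ?_, fun hmem => ?_⟩
      · rw [map_mul, psi_tmul, map_one, one_mul, hpe]
        linear_combination hew
      · show Hull.of φ (1, 0) * Hull.of φ (1, 0) = _
        rw [← map_mul]
        simp
      · exact (IsLocalization.AtPrime.isUnit_to_map_iff (Localization.AtPrime m) m _).1
          (show IsUnit (g e) by rw [hge]; exact isUnit_one) (hpe ▸ hmem)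
    exact ⟨w, by rw [hw, map_one, one_mul]⟩

end Tensor

section Lift

/-- An ind-étale algebra is its own hull. -/
theorem bijective_proj {A B : Type u} [CommRing A] [CommRing B] [Algebra A B]
    (h : EtPBC.IsIndEtale A B) : Function.Bijective (GrothLib.Hensel.Hull.proj (A := A) (C := B)) := by
  refine ⟨(injective_iff_map_eq_zero _).2 fun z hz => ?_, fun y => ?_⟩
  · obtain ⟨N, x, rfl⟩ := GrothLib.Hensel.Hull.exists_ι z
    rw [GrothLib.Hensel.Hull.proj_ι] at hz
    obtain ⟨V, _, _, _, a, b, hab, hx⟩ := GrothLib.IndEt.exists_etale_ker h N.pt (fun _ : Unit => x) (fun _ => hz)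
    obtain ⟨M, e, he⟩ := GrothLib.Hensel.Nbhd.exists_iso V b
    let f : N ⟶ M := ⟨e.toAlgHom.comp a, by rw [← AlgHom.comp_assoc, he, hab]⟩
    rw [← GrothLib.Hensel.Hull.ι_map f x]
    show GrothLib.Hensel.Hull.ι M (e (a x)) = 0
    rw [hx (), map_zero, map_zero]
  · obtain ⟨V, _, _, _, b, x, hx⟩ := GrothLib.IndEt.exists_etale_lift h (fun _ : Unit => y)
    obtain ⟨M, e, he⟩ := GrothLib.Hensel.Nbhd.exists_iso V b
    refine ⟨GrothLib.Hensel.Hull.ι M (e (x ())), ?_⟩
    rw [GrothLib.Hensel.Hull.proj_ι, ← hx ()]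
    exact AlgHom.congr_fun he (x ())


variable {C : Type u} [CommRing C] [Algebra A C]

/-- Points of weakly étale algebras in a w-contractible algebra factor through the hull. -/
theorem exists_lift (hC : EtPBC.IsWContractible C) {E : Type u} [CommRing E] [Algebra A E]
    [Algebra.WeaklyEtale A E] (h : E →ₐ[A] C) :
    ∃ l : E →ₐ[A] Hull A C, (Hull.proj (A := A) (C := C)).comp l = h := by
  obtain ⟨D, _, _, _, _, hff, hD, hAD⟩ := IndEt.exists_indEtale_cover A E
  letI : Algebra E C := h.toRingHom.toAlgebra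
  haveI : IsScalarTower A E C := IsScalarTower.of_algebraMap_eq fun a => (h.commutes a).symm
  haveI := hff
  obtain ⟨r⟩ := hC (C ⊗[E] D) inferInstance (IndEt.weaklyEtale (IndEt.isIndEtale_baseChange hD))
  let δ : D →ₐ[E] C := (r.restrictScalars E).comp Algebra.TensorProduct.includeRight
  haveI : Nonempty (Nbhd A D) := inferInstance
  let e := AlgEquiv.ofBijective (Hull.proj (A := A) (C := D)) (bijective_proj hAD)
  refine ⟨((map (δ.restrictScalars A)).comp e.symm.toAlgHom).comp (IsScalarTower.toAlgHom A E D), ?_⟩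
  ext x
  show Hull.proj (map (δ.restrictScalars A) (e.symm (algebraMap E D x))) = h x
  rw [proj_map]
  show δ (e (e.symm (algebraMap E D x))) = h x
  rw [e.apply_symm_apply, δ.commutes]
  rfl

/-- Maps out of weakly étale algebras are determined up to nilpotents. -/
theorem eq_of_comp_eq {R : Type u} [CommRing R] [Algebra A R] {S : Type u} [CommRing S] (π : R →+* S)
    (hnil : ∀ t : R, π t = 0 → IsNilpotent t) {E : Type u} [CommRing E]
    [Algebra A E] [Algebra.WeaklyEtale A E] {l₁ l₂ : E →ₐ[A] R}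
    (h : π.comp l₁.toRingHom = π.comp l₂.toRingHom) : l₁ = l₂ := by
  let μ := (Algebra.TensorProduct.lmul' A (S := E)).toRingHom
  have hμ : Function.Surjective μ := fun x => ⟨x ⊗ₜ 1, by simp [μ]⟩
  haveI : (RingHom.ker μ).Pure := by
    have h1 : ((RingHom.quotientKerEquivOfSurjective hμ).symm.toRingHom.comp μ).Flat :=
      (Algebra.WeaklyEtale.flat_lmul' A E).comp (.of_bijective (RingEquiv.bijective _))
    have h2 : (RingHom.quotientKerEquivOfSurjective hμ).symm.toRingHom.comp μ =
        Ideal.Quotient.mk (RingHom.ker μ) := RingHom.ext fun x => by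
      apply (RingHom.quotientKerEquivOfSurjective hμ).injective
      simp
    rw [h2] at h1
    exact RingHom.flat_algebraMap_iff.mp h1
  let Φ : E ⊗[A] E →ₐ[A] R := Algebra.TensorProduct.productMap l₁ l₂
  have hΦ : ∀ z, π (Φ z) = π (l₁ (μ z)) := fun z => by
    induction z using TensorProduct.induction_on with
    | zero => simp
    | tmul a b =>
      have hb : π (l₁ b) = π (l₂ b) := RingHom.congr_fun h b
      simp [Φ, μ, hb]
    | add x y hx hy => simp only [map_add, hx, hy]
  ext x
  have hx : x ⊗ₜ[A] (1 : E) - (1 : E) ⊗ₜ[A] x ∈ RingHom.ker μ := by simp [μ]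
  obtain ⟨y, hy, hxy⟩ := Ideal.exists_eq_mul_of_pure hx
  have hv : IsNilpotent (Φ y) := hnil _ (by
    rw [hΦ, show μ y = 0 from hy, map_zero, map_zero])
  have hw : Φ (x ⊗ₜ[A] (1 : E) - (1 : E) ⊗ₜ[A] x) * (1 - Φ y) = 0 := by
    rw [mul_sub, mul_one, ← map_mul, ← hxy, sub_self]
  have h0 := hv.isUnit_one_sub.mul_left_eq_zero.1 hw
  rwa [map_sub, Algebra.TensorProduct.productMap_apply_tmul, Algebra.TensorProduct.productMap_apply_tmul,
    map_one, map_one, mul_one, one_mul, sub_eq_zero] at h0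

end Lift

end GrothLib.HullTensor
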