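import Groth.Agent.Lib.IndEt.IndLoc
import Groth.Agent.Lib.IndEt.Retract
import Mathlib.RingTheory.Spectrum.Prime.Topology

/-!
# Localizations at idempotents
-/

set_option autoImplicit false

universe u

open PrimeSpectrum

namespace GrothLib.IndEt

variable {A B : Type u} [CommRing A] [CommRing B] [Algebra A B]

theorem isIndLoc_of_isLocalization (S : Submonoid A) [IsLocalization S B] : IsIndLoc A B := by
  intro Z _ _ _ g
  obtain ⟨s, -, a, b, hab⟩ := exists_away_factor S g
  exact ⟨1, fun _ => s, AlgHom.pi fun _ => a, b.comp (Pi.evalAlgHom A _ 0), AlgHom.ext fun z =>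
    AlgHom.congr_fun hab z⟩

theorem algebraMap_surjective_of_isIdempotentElem (S : Submonoid A) [IsLocalization S B]
    (hS : ∀ s ∈ S, IsIdempotentElem s) : Function.Surjective (algebraMap A B) := by
  intro y
  obtain ⟨⟨a, s⟩, h⟩ := IsLocalization.surj S y
  refine ⟨a, ?_⟩
  have hu := IsLocalization.map_units B s
  have h1 : algebraMap A B (s : A) = 1 := by
    apply hu.mul_left_cancel
    rw [← map_mul, hS s s.2, mul_one]
  rw [← h, h1, mul_one]

/-- The submonoid of idempotents invertible at all points of a set. -/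
def idemSubmonoid (Y : Set (PrimeSpectrum A)) : Submonoid A where
  carrier := {e | IsIdempotentElem e ∧ ∀ y ∈ Y, e ∉ y.asIdeal}
  one_mem' := ⟨IsIdempotentElem.one, fun y _ h => y.isPrime.ne_top ((Ideal.eq_top_iff_one _).2 h)⟩
  mul_mem' := fun ha hb => ⟨ha.1.mul hb.1,
    fun y hy h => (y.isPrime.mem_or_mem h).elim (ha.2 y hy) (hb.2 y hy)⟩

theorem range_comap_idemSubmonoid {Y : Set (PrimeSpectrum A)}
    (h : ∀ p ∉ Y, ∃ e, IsIdempotentElem e ∧ (∀ y ∈ Y, e ∉ y.asIdeal) ∧ e ∈ p.asIdeal) :
    Set.range (comap (algebraMap A (Localization (idemSubmonoid Y)))) = Y := by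
  rw [localization_comap_range (Localization (idemSubmonoid Y)) (idemSubmonoid Y)]
  ext p
  refine ⟨fun hp => by_contra fun hpY => ?_, fun hp => Set.disjoint_left.2 fun e he => he.2 p hp⟩
  obtain ⟨e, he, heY, hep⟩ := h p hpY
  exact Set.disjoint_left.1 hp (show e ∈ idemSubmonoid Y from ⟨he, heY⟩) hep

theorem isEmbedding_comap_idemSubmonoid (Y : Set (PrimeSpectrum A)) :
    Topology.IsEmbedding (comap (algebraMap A (Localization (idemSubmonoid Y)))) :=
  (isClosedEmbedding_comap_of_surjective _ _
    (algebraMap_surjective_of_isIdempotentElem (idemSubmonoid Y) fun _ hs => hs.1)).isEmbedding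

end GrothLib.IndEt
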