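import Groth.Agent.Lib.IndEt.Zariski
import Mathlib.RingTheory.TensorProduct.Basic
import Mathlib.RingTheory.Localization.Away.Basic

/-!
# Algebras which are limits of finite products of principal localizations
-/

set_option autoImplicit false

universe u

open TensorProduct

namespace GrothLib.IndEt

variable {A B C : Type u} [CommRing A] [CommRing B] [CommRing C] [Algebra A B]

/-- Every map from a finitely presented algebra factors through a finite product of principal
localizations. -/
def IsIndLoc (A B : Type u) [CommRing A] [CommRing B] [Algebra A B] : Prop :=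
  ∀ (Z : Type u) [CommRing Z] [Algebra A Z] [Algebra.FinitePresentation A Z] (g : Z →ₐ[A] B),
    ∃ (n : ℕ) (f : Fin n → A) (a : Z →ₐ[A] (∀ i, Localization.Away (f i)))
      (b : (∀ i, Localization.Away (f i)) →ₐ[A] B), b.comp a = g

theorem IsIndLoc.isIndZariski (h : IsIndLoc A B) : EtPBC.IsIndZariski A B :=
  of_exists_localIso fun Z _ _ _ g => by
    obtain ⟨n, f, a, b, hab⟩ := h Z g
    exact ⟨∀ i, Localization.Away (f i), inferInstance, inferInstance,
      Algebra.IsLocalIso.pi_of_finite A _, a, b, hab⟩

theorem exists_localIso_lift (h : EtPBC.IsIndZariski A B) {ι : Type} [Finite ι] (y : ι → B) :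
    ∃ (V : Type u) (_ : CommRing V) (_ : Algebra A V) (_ : Algebra.IsLocalIso A V) (b : V →ₐ[A] B)
      (x : ι → V), ∀ i, b (x i) = y i := by
  obtain ⟨V, _, _, _, a, b, hab⟩ :=
    exists_localIso h (MvPolynomial.aeval (R := A) fun i : ULift.{u} ι => y i.down)
  refine ⟨V, inferInstance, inferInstance, inferInstance, b, fun i => a (MvPolynomial.X ⟨i⟩), fun i => ?_⟩
  have := AlgHom.congr_fun hab (MvPolynomial.X ⟨i⟩)
  simpa using this

/-- A map from a finitely presented algebra into a principal localization of an ind-Zariski algebra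
comes from a principal localization of a local isomorphism. -/
theorem exists_localIso_away (h : EtPBC.IsIndZariski A B) (b : B) {Z : Type u} [CommRing Z]
    [Algebra A Z] [Algebra.FinitePresentation A Z] (g : Z →ₐ[A] Localization.Away b) :
    ∃ (V : Type u) (_ : CommRing V) (_ : Algebra A V) (_ : Algebra.IsLocalIso A V) (v : V)
      (a : Z →ₐ[A] Localization.Away v) (β : Localization.Away v →ₐ[A] Localization.Away b),
      β.comp a = g := by
  classical
  obtain ⟨n, π, hπ, rel, hrel⟩ := (inferInstance : Algebra.FinitePresentation A Z).out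
  obtain ⟨⟨_, N, rfl⟩, ht⟩ := IsLocalization.exist_integer_multiples_of_finite (Submonoid.powers b)
    (fun k : Fin n => g (π (MvPolynomial.X k)))
  choose c hc using ht
  obtain ⟨V, _, _, _, β₀, x₀, hx₀⟩ := exists_localIso_lift h
    (fun o : Option (Fin n) => o.elim b c)
  have hb : β₀ (x₀ none) = b := hx₀ none
  let T := Localization.Away (x₀ none)
  let β₁ : T →ₐ[A] Localization.Away b :=
    IsLocalization.liftAlgHom (M := Submonoid.powers (x₀ none))
      (f := (IsScalarTower.toAlgHom A B (Localization.Away b)).comp β₀) (by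
      rintro ⟨_, k, rfl⟩
      show IsUnit (algebraMap B (Localization.Away b) (β₀ (x₀ none ^ k)))
      rw [map_pow, hb, map_pow]
      exact (IsLocalization.Away.algebraMap_isUnit b).pow k)
  have hβ₁ : ∀ y, β₁ (algebraMap V T y) = algebraMap B (Localization.Away b) (β₀ y) := fun y => by
    show IsLocalization.liftAlgHom _ _ = _
    rw [IsLocalization.liftAlgHom_apply, IsLocalization.lift_eq]
    rfl
  obtain ⟨w, hw⟩ : ∃ w : T, algebraMap V T (x₀ none ^ N) * w = 1 := by
    rw [map_pow]
    exact ((IsLocalization.Away.algebraMap_isUnit (S := T) (x₀ none)).pow N).exists_right_inv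
  let x : Fin n → T := fun k => algebraMap V T (x₀ (some k)) * w
  have hx : ∀ k, β₁ (x k) = g (π (MvPolynomial.X k)) := fun k => by
    have hu : IsUnit (algebraMap B (Localization.Away b) (b ^ N)) := by
      rw [map_pow]; exact (IsLocalization.Away.algebraMap_isUnit b).pow N
    apply hu.mul_left_cancel
    have h1 : algebraMap B (Localization.Away b) (b ^ N) * g (π (MvPolynomial.X k)) =
        algebraMap B _ (c k) := by
      rw [hc k, Algebra.smul_def]
    have h2 : β₁ (algebraMap V T (x₀ none ^ N) * x k) = algebraMap B _ (c k) := by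
      rw [show algebraMap V T (x₀ none ^ N) * x k = algebraMap V T (x₀ (some k)) by
        simp only [x]; rw [mul_left_comm, hw, mul_one], hβ₁]
      exact congrArg _ (hx₀ (some k))
    rw [h1, ← h2, map_mul β₁ (algebraMap V T (x₀ none ^ N)) (x k), hβ₁, map_pow β₀, hb]
  have hπx : β₁.comp (MvPolynomial.aeval x) = g.comp π :=
    MvPolynomial.algHom_ext fun k => by simp [hx]
  have hd : ∀ f : rel, ∃ d : V, β₀ d = 0 ∧
      ∃ m : ℕ, algebraMap V T d = algebraMap V T (x₀ none ^ m) * MvPolynomial.aeval x f.1 := fun f => by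
    obtain ⟨⟨d, ⟨_, m, rfl⟩⟩, hdw⟩ :=
      IsLocalization.surj (Submonoid.powers (x₀ none)) (MvPolynomial.aeval x f.1)
    have h0 : algebraMap B (Localization.Away b) (β₀ d) = 0 := by
      rw [← hβ₁, ← hdw, map_mul]
      have : β₁ (MvPolynomial.aeval x f.1) = g (π f.1) := AlgHom.congr_fun hπx f.1
      rw [this, show π f.1 = 0 from RingHom.mem_ker.1 (hrel ▸ Ideal.subset_span f.2), map_zero,
        zero_mul]
    obtain ⟨⟨_, l, rfl⟩, hl⟩ := (IsLocalization.map_eq_zero_iff (Submonoid.powers b) _ _).1 h0
    refine ⟨x₀ none ^ l * d, ?_, l + m, ?_⟩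
    · rw [map_mul, map_pow, hb]; exact hl
    · rw [map_mul, ← hdw, pow_add, map_mul]
      ring
  choose d hd0 m hm using hd
  haveI := etale_of_isLocalIso A V
  let I : Ideal V := Ideal.span (Set.range d)
  haveI : Algebra.FinitePresentation A (V ⧸ I) :=
    Algebra.FinitePresentation.quotient (Submodule.fg_span (Set.finite_range d))
  have hI : ∀ y ∈ I, β₀ y = 0 := fun y hy =>
    (Ideal.span_le.2 (by rintro _ ⟨i, rfl⟩; exact hd0 i) : I ≤ RingHom.ker β₀) hy
  obtain ⟨W, _, _, _, a, β, hab⟩ := exists_localIso h (Ideal.Quotient.liftₐ I β₀ hI)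
  let q : V →ₐ[A] W := a.comp (Ideal.Quotient.mkₐ A I)
  have hq : ∀ y, β (q y) = β₀ y := fun y => AlgHom.congr_fun hab (Ideal.Quotient.mk I y)
  let L := Localization.Away (q (x₀ none))
  let j : T →ₐ[A] L :=
    IsLocalization.liftAlgHom (M := Submonoid.powers (x₀ none))
      (f := (IsScalarTower.toAlgHom A W L).comp q) (by
      rintro ⟨_, k, rfl⟩
      show IsUnit (algebraMap W L (q (x₀ none ^ k)))
      rw [map_pow, map_pow]
      exact (IsLocalization.Away.algebraMap_isUnit _).pow k)
  let βL : L →ₐ[A] Localization.Away b :=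
    IsLocalization.liftAlgHom (M := Submonoid.powers (q (x₀ none)))
      (f := (IsScalarTower.toAlgHom A B (Localization.Away b)).comp β) (by
      rintro ⟨_, k, rfl⟩
      show IsUnit (algebraMap B (Localization.Away b) (β (q (x₀ none) ^ k)))
      rw [map_pow, hq, hb, map_pow]
      exact (IsLocalization.Away.algebraMap_isUnit _).pow k)
  have hj : ∀ y, j (algebraMap V T y) = algebraMap W L (q y) := fun y => by
    show IsLocalization.liftAlgHom _ _ = _
    rw [IsLocalization.liftAlgHom_apply, IsLocalization.lift_eq]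
    rfl
  have hker : ∀ z ∈ RingHom.ker π, j (MvPolynomial.aeval x z) = 0 := fun z hz => by
    have : RingHom.ker π ≤ RingHom.ker (j.comp (MvPolynomial.aeval x)) := by
      change RingHom.ker π.toRingHom ≤ _
      rw [show RingHom.ker π.toRingHom = Ideal.span (rel : Set (MvPolynomial (Fin n) A)) from
        hrel.symm, Ideal.span_le]
      intro f hf
      show j (MvPolynomial.aeval x f) = 0
      have hu : IsUnit (j (algebraMap V T (x₀ none ^ m ⟨f, hf⟩))) := by
        rw [map_pow]
        exact (((IsLocalization.Away.algebraMap_isUnit (S := T) (x₀ none)).pow _)).map j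
      apply hu.mul_left_cancel
      rw [mul_zero, ← map_mul, ← hm, hj]
      show algebraMap W L (a (Ideal.Quotient.mk I (d ⟨f, hf⟩))) = 0
      rw [(Ideal.Quotient.eq_zero_iff_mem (I := I)).2 (Ideal.subset_span (Set.mem_range_self _)),
        map_zero, map_zero]
    exact this hz
  refine ⟨W, inferInstance, inferInstance, inferInstance, q (x₀ none),
    (Ideal.Quotient.liftₐ (RingHom.ker π) (j.comp (MvPolynomial.aeval x)) hker).comp
      (Ideal.quotientKerAlgEquivOfSurjective hπ).symm.toAlgHom, βL, ?_⟩
  refine (AlgHom.cancel_right hπ).1 (MvPolynomial.algHom_ext fun k => ?_)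
  have h1 : (Ideal.quotientKerAlgEquivOfSurjective hπ).symm (π (MvPolynomial.X k)) =
      Ideal.Quotient.mk (RingHom.ker π) (MvPolynomial.X k) := by
    rw [AlgEquiv.symm_apply_eq]; rfl
  show βL (Ideal.Quotient.liftₐ (RingHom.ker π) (j.comp (MvPolynomial.aeval x)) hker
    ((Ideal.quotientKerAlgEquivOfSurjective hπ).symm (π (MvPolynomial.X k)))) = g (π (MvPolynomial.X k))
  rw [h1]
  show βL (j (MvPolynomial.aeval x (MvPolynomial.X k))) = _
  rw [MvPolynomial.aeval_X, ← hx]
  have key : (βL.comp j).toRingHom = β₁.toRingHom := by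
    refine IsLocalization.ringHom_ext (Submonoid.powers (x₀ none)) (RingHom.ext fun y => ?_)
    show βL (j (algebraMap V T y)) = β₁ (algebraMap V T y)
    rw [hj, hβ₁, ← hq]
    show IsLocalization.liftAlgHom _ _ = _
    rw [IsLocalization.liftAlgHom_apply, IsLocalization.lift_eq]
    rfl
  exact RingHom.congr_fun key (x k)

/-- Composition of an ind-Zariski map with a limit of products of principal localizations. -/
theorem isIndZariski_trans [Algebra B C] [Algebra A C] [IsScalarTower A B C]
    (hB : EtPBC.IsIndZariski A B) (hC : IsIndLoc B C) : EtPBC.IsIndZariski A C := by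
  classical
  refine of_exists_localIso fun Z _ _ _ g => ?_
  obtain ⟨n, f, a, b, hab⟩ := hC (B ⊗[A] Z)
    (Algebra.TensorProduct.lift (Algebra.ofId B C) g (fun _ _ => Commute.all _ _))
  let a' : Z →ₐ[A] (∀ i, Localization.Away (f i)) :=
    (a.restrictScalars A).comp Algebra.TensorProduct.includeRight
  choose V i1 i2 i3 v aV β hβ using fun i =>
    exists_localIso_away hB (f i) ((Pi.evalAlgHom A (fun i => Localization.Away (f i)) i).comp a')
  haveI : ∀ i, Algebra.IsLocalIso A (Localization.Away (v i)) := fun i =>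
    Algebra.IsLocalIso.trans A (V i) (Localization.Away (v i))
  refine ⟨∀ i, Localization.Away (v i), inferInstance, inferInstance,
    Algebra.IsLocalIso.pi_of_finite A _, AlgHom.pi fun i => aV i,
    (b.restrictScalars A).comp (AlgHom.pi fun i => (β i).comp (Pi.evalAlgHom A _ i)), ?_⟩
  ext z
  show b (fun i => β i (aV i z)) = g z
  have h1 : (fun i => β i (aV i z)) = a ((1 : B) ⊗ₜ[A] z) :=
    funext fun i => AlgHom.congr_fun (hβ i) z
  rw [h1, ← AlgHom.comp_apply, hab]
  simp

end GrothLib.IndEt
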