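import Groth.Agent.Lib.IndEt.Algebra
import Groth.Agent.Lib.Hensel.FiniteEtaleLift
import Mathlib.RingTheory.Ideal.IdempotentFG
import Mathlib.RingTheory.TensorProduct.Quotient

/-!
# Lifting ind-étale algebras along quotients
-/

set_option autoImplicit false

universe u

open TensorProduct

namespace GrothLib.IndEt

variable {A : Type u} [CommRing A] (I : Ideal A) (Cb : Type u) [CommRing Cb] [Algebra (A ⧸ I) Cb]
  [Algebra A Cb] [IsScalarTower A (A ⧸ I) Cb]

theorem one_tmul_surjective (B : Type u) [CommRing B] [Algebra A B] (y : (A ⧸ I) ⊗[A] B) :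
    ∃ b : B, (1 : A ⧸ I) ⊗ₜ[A] b = y := by
  obtain ⟨z, hz⟩ := (Algebra.TensorProduct.quotIdealMapEquivQuotTensor B I).surjective y
  obtain ⟨b, rfl⟩ := Ideal.Quotient.mk_surjective z
  exact ⟨b, by rw [← hz, Algebra.TensorProduct.quotIdealMapEquivQuotTensor_mk]⟩

theorem mem_map_of_one_tmul_eq_zero {B : Type u} [CommRing B] [Algebra A B] {b : B}
    (h : (1 : A ⧸ I) ⊗ₜ[A] b = 0) : b ∈ I.map (algebraMap A B) := by
  rw [← Algebra.TensorProduct.quotIdealMapEquivQuotTensor_mk, map_eq_zero_iff _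
    (AlgEquiv.injective _)] at h
  exact Ideal.Quotient.eq_zero_iff_mem.1 h

theorem exists_sub_mul_mem {P V : Type u} [CommRing P] [Algebra A P] [Algebra.Etale A P]
    [CommRing V] [Algebra (A ⧸ I) V] [Algebra A V] [IsScalarTower A (A ⧸ I) V]
    [Algebra.Etale (A ⧸ I) V] (F : P →ₐ[A] V) (hF : Function.Surjective F) {y : P} (hy : F y = 0) :
    ∃ p, F p = 0 ∧ (1 - p) * y ∈ I.map (algebraMap A P) := by
  let Fb : (A ⧸ I) ⊗[A] P →ₐ[A ⧸ I] V :=
    Algebra.TensorProduct.lift (Algebra.ofId (A ⧸ I) V) F (fun _ _ => Commute.all _ _)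
  have hFb : Function.Surjective Fb := fun v => by
    obtain ⟨t, rfl⟩ := hF v
    exact ⟨1 ⊗ₜ t, by simp [Fb]⟩
  letI : Algebra ((A ⧸ I) ⊗[A] P) V := Fb.toRingHom.toAlgebra
  haveI : IsScalarTower (A ⧸ I) ((A ⧸ I) ⊗[A] P) V :=
    IsScalarTower.of_algebraMap_eq fun r => (Fb.commutes r).symm
  haveI : Algebra.Etale ((A ⧸ I) ⊗[A] P) V := .of_restrictScalars (A ⧸ I) _ _
  have hidem : IsIdempotentElem (RingHom.ker Fb) :=
    (Algebra.FormallyEtale.iff_of_surjective (R := (A ⧸ I) ⊗[A] P) (S := V) hFb).1 inferInstance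
  obtain ⟨ε, hε, hspan⟩ := (Ideal.isIdempotentElem_iff_of_fg _
    (Algebra.FinitePresentation.ker_fG_of_surjective Fb hFb)).1 hidem
  have hεmem : Fb ε = 0 := RingHom.mem_ker.1 (hspan ▸ Submodule.mem_span_singleton_self ε)
  obtain ⟨p, rfl⟩ := one_tmul_surjective I _ ε
  refine ⟨p, by simpa [Fb] using hεmem, mem_map_of_one_tmul_eq_zero I ?_⟩
  have hy0 : (1 : A ⧸ I) ⊗ₜ[A] y ∈ RingHom.ker Fb := RingHom.mem_ker.2 (by simp [Fb, hy])
  replace hy0 : (1 : A ⧸ I) ⊗ₜ[A] y ∈ Ideal.span {(1 : A ⧸ I) ⊗ₜ[A] p} := hspan.le hy0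
  obtain ⟨c, hc⟩ := Submodule.mem_span_singleton.1 hy0
  show Algebra.TensorProduct.includeRight (R := A) (A := A ⧸ I) ((1 - p) * y) = 0
  rw [map_mul, map_sub, map_one]
  show (1 - (1 : A ⧸ I) ⊗ₜ[A] p) * ((1 : A ⧸ I) ⊗ₜ[A] y) = 0
  rw [← hc, smul_eq_mul, mul_left_comm, sub_mul, one_mul, hε.eq, sub_self, mul_zero]

theorem exists_etale_mem {S T V : Type u} [CommRing S] [Algebra A S] [Algebra.Etale A S]
    [CommRing T] [Algebra A T] [Algebra.Etale A T]
    [CommRing V] [Algebra (A ⧸ I) V] [Algebra A V] [IsScalarTower A (A ⧸ I) V]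
    [Algebra.Etale (A ⧸ I) V] (a : S →ₐ[A] V) (f : T →ₐ[A] V) (hf : Function.Surjective f)
    {C : Type u} [CommRing C] [Algebra A C] (b : V →ₐ[A] C) {x : S} (hx : a x = 0) :
    ∃ (P' : Type u) (_ : CommRing P') (_ : Algebra A P') (_ : Algebra.Etale A P') (φ : S →ₐ[A] P')
      (pt : P' →ₐ[A] C), pt.comp φ = b.comp a ∧ φ x ∈ I.map (algebraMap A P') := by
  let F : S ⊗[A] T →ₐ[A] V := Algebra.TensorProduct.lift a f (fun _ _ => Commute.all _ _)
  haveI : Algebra.Etale A (S ⊗[A] T) := .comp A S _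
  have hFs : Function.Surjective F := fun v => by
    obtain ⟨t, rfl⟩ := hf v
    exact ⟨1 ⊗ₜ t, by simp [F]⟩
  obtain ⟨p, hp, hkill⟩ := exists_sub_mul_mem I F hFs (y := x ⊗ₜ[A] (1 : T)) (by simp [F, hx])
  let P' := Localization.Away (1 - p : S ⊗[A] T)
  haveI : Algebra.Etale (S ⊗[A] T) P' := Algebra.Etale.of_isLocalizationAway (1 - p)
  haveI : Algebra.Etale A P' := .comp A (S ⊗[A] T) _
  have hu : IsUnit ((b.comp F) (1 - p)) := by simp [hp]
  have hu' : ∀ y : Submonoid.powers (1 - p : S ⊗[A] T), IsUnit ((b.comp F) y) := fun y => by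
    obtain ⟨_, n, rfl⟩ := y
    exact (map_pow (b.comp F) (1 - p) n).symm ▸ hu.pow n
  let pt' : P' →ₐ[A] C := IsLocalization.liftAlgHom (M := Submonoid.powers (1 - p : S ⊗[A] T)) hu'
  let φ : S →ₐ[A] P' :=
    (IsScalarTower.toAlgHom A (S ⊗[A] T) P').comp Algebra.TensorProduct.includeLeft
  refine ⟨P', inferInstance, inferInstance, inferInstance, φ, pt', ?_, ?_⟩
  · ext y
    show pt' (algebraMap _ P' (y ⊗ₜ[A] (1 : T))) = b (a y)
    rw [IsLocalization.liftAlgHom_apply, IsLocalization.lift_eq]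
    show b (F (y ⊗ₜ[A] (1 : T))) = _
    simp [F]
  · obtain ⟨w, hw⟩ := IsLocalization.Away.algebraMap_isUnit (S := P') (1 - p : S ⊗[A] T)
    have : algebraMap _ P' ((1 - p) * (x ⊗ₜ[A] (1 : T))) ∈ I.map (algebraMap A P') := by
      rw [IsScalarTower.algebraMap_eq A (S ⊗[A] T) P', ← Ideal.map_map]
      exact Ideal.mem_map_of_mem _ hkill
    rw [map_mul, ← hw] at this
    exact ((I.map (algebraMap A P')).unit_mul_mem_iff_mem w.isUnit).1 this

/-- The hull of an ind-étale `A ⧸ I`-algebra reduces to it. -/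
theorem ker_proj_eq_map (h : EtPBC.IsIndEtale (A ⧸ I) Cb) :
    Function.Surjective (Hensel.Hull.proj (A := A) (C := Cb)) ∧
      RingHom.ker (Hensel.Hull.proj (A := A) (C := Cb)) =
        I.map (algebraMap A (Hensel.Hull A Cb)) := by
  refine ⟨fun c => ?_, le_antisymm (fun z hz => ?_) ?_⟩
  · obtain ⟨V, _, _, _, b, x, hx⟩ := exists_etale_lift h (fun _ : Unit => c)
    letI : Algebra A V := ((algebraMap (A ⧸ I) V).comp (Ideal.Quotient.mk I)).toAlgebra
    haveI : IsScalarTower A (A ⧸ I) V := IsScalarTower.of_algebraMap_eq fun _ => rfl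
    obtain ⟨T, _, _, f, _, hf, -⟩ := Hensel.exists_etale_lift I V
    obtain ⟨t, ht⟩ := hf (x ())
    obtain ⟨M, e, he⟩ := Hensel.Nbhd.exists_iso T ((b.restrictScalars A).comp f)
    refine ⟨Hensel.Hull.ι M (e t), ?_⟩
    rw [Hensel.Hull.proj_ι, ← hx (), ← ht]
    exact AlgHom.congr_fun he t
  · obtain ⟨N, x, rfl⟩ := Hensel.Hull.exists_ι z
    have hx : N.pt x = 0 := (Hensel.Hull.proj_ι N x).symm.trans hz
    let β : (A ⧸ I) ⊗[A] N.Ring →ₐ[A ⧸ I] Cb :=
      Algebra.TensorProduct.lift (Algebra.ofId (A ⧸ I) Cb) N.pt (fun _ _ => Commute.all _ _)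
    obtain ⟨V, _, _, _, a, b, hab, ha⟩ :=
      exists_etale_ker h β (fun _ : Unit => (1 : A ⧸ I) ⊗ₜ[A] x) (fun _ => by simp [β, hx])
    letI : Algebra A V := ((algebraMap (A ⧸ I) V).comp (Ideal.Quotient.mk I)).toAlgebra
    haveI : IsScalarTower A (A ⧸ I) V := IsScalarTower.of_algebraMap_eq fun _ => rfl
    obtain ⟨T, _, _, f, _, hf, -⟩ := Hensel.exists_etale_lift I V
    obtain ⟨P', _, _, _, φ, pt, hpt, hmem⟩ := exists_etale_mem I
      ((a.restrictScalars A).comp Algebra.TensorProduct.includeRight) f hf (b.restrictScalars A)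
      (x := x) (ha ())
    obtain ⟨M, e, he⟩ := Hensel.Nbhd.exists_iso P' pt
    let g : N ⟶ M := ⟨e.toAlgHom.comp φ, by
      rw [← AlgHom.comp_assoc, he, hpt]
      ext y
      show b (a ((1 : A ⧸ I) ⊗ₜ[A] y)) = N.pt y
      rw [← AlgHom.comp_apply, hab]
      simp [β]⟩
    rw [← Hensel.Hull.ι_map g x]
    show Hensel.Hull.ι M (e (φ x)) ∈ _
    have key := Ideal.mem_map_of_mem ((Hensel.Hull.ι M).comp e.toAlgHom).toRingHom hmem
    rw [Ideal.map_map] at key
    rw [← ((Hensel.Hull.ι M).comp e.toAlgHom).comp_algebraMap]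
    exact key
  · rw [Ideal.map_le_iff_le_comap]
    intro r hr
    show Hensel.Hull.proj (A := A) (C := Cb) (algebraMap A _ r) = 0
    rw [AlgHom.commutes, IsScalarTower.algebraMap_apply A (A ⧸ I) Cb,
      Ideal.Quotient.algebraMap_eq, Ideal.Quotient.eq_zero_iff_mem.2 hr, map_zero]

end GrothLib.IndEt
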