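import Groth.Agent.Lib.IndEt.Algebra
import Mathlib.RingTheory.LocalIso
import Mathlib.RingTheory.RingHom.Etale
import Mathlib.CategoryTheory.Filtered.Final

/-!
# Algebraic criterion for ind-Zariski algebras
-/

set_option autoImplicit false

universe u

open CategoryTheory Limits

namespace GrothLib.IndEt

attribute [local instance] Cardinal.fact_isRegular_aleph0

variable {A B : Type u} [CommRing A] [CommRing B] [Algebra A B]

theorem etale_of_isLocalIso (A S : Type u) [CommRing A] [CommRing S] [Algebra A S]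
    [Algebra.IsLocalIso A S] : Algebra.Etale A S := by
  rw [← RingHom.etale_algebraMap]
  refine RingHom.Etale.ofLocalizationSpanTarget (algebraMap A S) _
    (Algebra.IsLocalIso.span_isStandardOpenImmersion_eq_top A S) fun g => ?_
  rw [← IsScalarTower.algebraMap_eq A S]
  show RingHom.Etale (algebraMap A (Localization.Away (g : S)))
  rw [RingHom.etale_algebraMap]
  obtain ⟨r, hr⟩ := (g.2 : Algebra.IsStandardOpenImmersion A (Localization.Away (g : S))).exists_away
  exact Algebra.Etale.of_isLocalizationAway r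

/-- A map from a finitely presented algebra to an ind-Zariski algebra factors through a local
isomorphism. -/
theorem exists_localIso (h : EtPBC.IsIndZariski A B) {Z : Type u} [CommRing Z] [Algebra A Z]
    [Algebra.FinitePresentation A Z] (g : Z →ₐ[A] B) :
    ∃ (V : Type u) (_ : CommRing V) (_ : Algebra A V) (_ : Algebra.IsLocalIso A V)
      (a : Z →ₐ[A] V) (b : V →ₐ[A] B), b.comp a = g := by
  obtain ⟨J, _, _, D, c, hc, het, ⟨e⟩⟩ := h
  haveI : IsFinitelyPresentable.{u} (Under.mk (CommRingCat.ofHom (algebraMap A Z))) :=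
    CommRingCat.isFinitelyPresentable_under _ _
      ((RingHom.finitePresentation_algebraMap (A := A) (B := Z)).2 ‹_›)
  let g' : Under.mk (CommRingCat.ofHom (algebraMap A Z)) ⟶ c.pt :=
    Under.homMk (CommRingCat.ofHom g.toRingHom) (by ext a; exact g.commutes a) ≫ e.inv
  obtain ⟨j, p, hp⟩ := IsFinitelyPresentable.exists_hom_of_isColimit hc g'
  letI : Algebra A (D.obj j).right := (D.obj j).hom.hom.toAlgebra
  refine ⟨(D.obj j).right, inferInstance, inferInstance, het j,
    { p.right.hom with commutes' := fun a => congr($(Under.w p) a) },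
    { (c.ι.app j ≫ e.hom).right.hom with
      commutes' := fun a => congr($(Under.w (c.ι.app j ≫ e.hom)) a) }, ?_⟩
  have : p ≫ (c.ι.app j ≫ e.hom) = Under.homMk (U := Under.mk (CommRingCat.ofHom (algebraMap A Z)))
      (V := Under.mk (CommRingCat.ofHom (algebraMap A B)))
      (CommRingCat.ofHom g.toRingHom) (by ext a; exact g.commutes a) := by
    rw [← Category.assoc, hp]
    simp [g']
  ext z
  exact congr($(congrArg CommaMorphism.right this) z)

/-- An algebra such that every map from a finitely presented algebra factors through a local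
isomorphism is ind-Zariski. -/
theorem of_exists_localIso
    (h : ∀ (Z : Type u) [CommRing Z] [Algebra A Z] [Algebra.FinitePresentation A Z] (g : Z →ₐ[A] B),
      ∃ (V : Type u) (_ : CommRing V) (_ : Algebra A V) (_ : Algebra.IsLocalIso A V)
        (a : Z →ₐ[A] V) (b : V →ₐ[A] B), b.comp a = g) :
    EtPBC.IsIndZariski A B := by
  have hE : EtPBC.IsIndEtale A B := of_exists_etale fun Z _ _ _ g => by
    obtain ⟨V, i1, i2, i3, a, b, hab⟩ := h Z g
    exact ⟨V, i1, i2, etale_of_isLocalIso A V, a, b, hab⟩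
  let P : ObjectProperty (Hensel.Nbhd A B) := fun N => Algebra.IsLocalIso A N.Ring
  have hP : ∀ N : Hensel.Nbhd A B, ∃ M : P.FullSubcategory, Nonempty (N ⟶ P.ι.obj M) := fun N => by
    haveI : Algebra.FinitePresentation A N.Ring := inferInstance
    obtain ⟨V, _, _, _, a, b, hab⟩ := h N.Ring N.pt
    haveI := etale_of_isLocalIso A V
    obtain ⟨M, e, he⟩ := Hensel.Nbhd.exists_iso V b
    exact ⟨⟨M, Algebra.IsLocalIso.of_algEquiv e⟩, ⟨⟨e.toAlgHom.comp a, by
      show M.pt.comp _ = _
      rw [← AlgHom.comp_assoc, he, hab]⟩⟩⟩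
  haveI := IsFiltered.of_exists_of_isFiltered_of_fullyFaithful P.ι hP
  haveI : P.ι.Final := Functor.final_of_exists_of_isFiltered_of_fullyFaithful P.ι hP
  have hsurj : Function.Bijective (Hensel.Hull.proj (A := A) (C := B)) := by
    refine ⟨(injective_iff_map_eq_zero _).2 fun z hz => ?_, fun y => ?_⟩
    · obtain ⟨N, x, rfl⟩ := Hensel.Hull.exists_ι z
      rw [Hensel.Hull.proj_ι] at hz
      obtain ⟨W, _, _, _, a, b, hab, ha⟩ := exists_etale_ker hE N.pt (fun _ : Unit => x) (fun _ => hz)
      obtain ⟨M, e, he⟩ := Hensel.Nbhd.exists_iso W b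
      let f : N ⟶ M := ⟨e.toAlgHom.comp a, by rw [← AlgHom.comp_assoc, he, hab]⟩
      rw [← Hensel.Hull.ι_map f x]
      show Hensel.Hull.ι M (e (a x)) = 0
      rw [ha (), map_zero, map_zero]
    · obtain ⟨V, _, _, _, b, x, hx⟩ := exists_etale_lift hE (fun _ : Unit => y)
      obtain ⟨M, e, he⟩ := Hensel.Nbhd.exists_iso V b
      refine ⟨Hensel.Hull.ι M (e (x ())), ?_⟩
      rw [Hensel.Hull.proj_ι, ← hx ()]
      exact AlgHom.congr_fun he (x ())
  let π := AlgEquiv.ofBijective _ hsurj
  refine ⟨P.FullSubcategory, inferInstance, inferInstance, P.ι ⋙ Hensel.Nbhd.underDiagram A B,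
    (Hensel.Hull.underCocone A B).whisker P.ι,
    (Functor.Final.isColimitWhiskerEquiv P.ι _).symm (Hensel.Hull.underCoconeIsColimit A B),
    fun N => ?_, ⟨Under.isoMk π.toRingEquiv.toCommRingCatIso (by ext a; exact π.commutes a)⟩⟩
  have h' : (algebraMap A N.1.Ring).toAlgebra = (inferInstance : Algebra A N.1.Ring) :=
    Algebra.algebra_ext _ _ fun _ ↦ rfl
  show @Algebra.IsLocalIso A N.1.Ring _ _ (algebraMap A N.1.Ring).toAlgebra
  rw [h']
  exact N.2

theorem isIndEtale_of_isIndZariski (h : EtPBC.IsIndZariski A B) : EtPBC.IsIndEtale A B :=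
  of_exists_etale fun Z _ _ _ g => by
    obtain ⟨V, i1, i2, i3, a, b, hab⟩ := exists_localIso h g
    exact ⟨V, i1, i2, etale_of_isLocalIso A V, a, b, hab⟩

end GrothLib.IndEt
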